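import Groth.Agent.Funfld2.PlaceBasic

/-! Vanishing dimensions of linear series at places. -/

open FunFld
open scoped WithZero

namespace Groth.Funfld2

variable {k K : Type*} [Field k] [Field K] [Algebra k K]

/-- `vdim D V P n = dim (V ∩ L(D - nP))`. -/
noncomputable def vdim (D : Divisor k K) (V : Submodule k K) (P : Place k K) (n : ℤ) : ℕ :=
  Module.finrank k ↥(V ⊓ L (D - Finsupp.single P n))

/-- A linear series of dimension `r` and degree `d`. -/
structure IsSeries (D : Divisor k K) (V : Submodule k K) (d r : ℕ) : Prop where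
  deg : D.deg = d
  le : V ≤ L D
  rank : Module.finrank k V = r + 1

/-- The weight sum `∑_{n=1}^d dim V(-nP)`. -/
noncomputable def vsum (D : Divisor k K) (V : Submodule k K) (P : Place k K) (d : ℕ) : ℕ :=
  ∑ n ∈ Finset.range d, vdim D V P ((n : ℤ) + 1)

variable {D : Divisor k K} {V : Submodule k K} {d r : ℕ} {P Q : Place k K}

theorem IsSeries.finite (h : IsSeries D V d r) : FiniteDimensional k V :=
  FiniteDimensional.of_finrank_pos (by rw [h.rank]; omega)

theorem vdim_le (h : IsSeries D V d r) (n : ℤ) : vdim D V P n ≤ r + 1 := by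
  have := h.finite
  rw [← h.rank]
  exact Submodule.finrank_mono inf_le_left

theorem vdim_zero (h : IsSeries D V d r) : vdim D V P 0 = r + 1 := by
  rw [vdim, Finsupp.single_zero, sub_zero, inf_eq_left.2 h.le, h.rank]

theorem vdim_anti (h : IsSeries D V d r) {m n : ℤ} (hmn : m ≤ n) :
    vdim D V P n ≤ vdim D V P m := by
  have := h.finite
  have : FiniteDimensional k ↥(V ⊓ L (D - Finsupp.single P m)) :=
    Submodule.finiteDimensional_of_le (inf_le_left : _ ≤ V)
  exact Submodule.finrank_mono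
    (inf_le_inf_left _ (L_mono (sub_le_sub_left (Finsupp.single_le_single.2 hmn) D)))

variable (hG : Good k K)
include hG

theorem vdim_eq_zero (h : IsSeries D V d r) {n : ℤ} (hn : (d : ℤ) < n) : vdim D V P n = 0 := by
  rw [vdim, L_eq_bot hG, inf_bot_eq, finrank_bot]
  rw [deg_sub, deg_single, h.deg, hG.deg_one]
  omega

theorem vdim_le_succ (h : IsSeries D V d r) (n : ℤ) :
    vdim D V P n ≤ vdim D V P (n + 1) + 1 := by
  have := h.finite
  by_cases hle : V ⊓ L (D - Finsupp.single P n) ≤ L (D - Finsupp.single P (n + 1))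
  · have : FiniteDimensional k ↥(V ⊓ L (D - Finsupp.single P (n + 1))) :=
      Submodule.finiteDimensional_of_le (inf_le_left : _ ≤ V)
    exact (Submodule.finrank_mono (le_inf inf_le_left hle)).trans (Nat.le_succ _)
  obtain ⟨g, hg, hg'⟩ := SetLike.not_le_iff_exists.1 hle
  obtain ⟨hgV, hgL⟩ := Submodule.mem_inf.1 hg
  have hE : D - Finsupp.single P n - Finsupp.single P 1 = D - Finsupp.single P (n + 1) := by
    rw [sub_sub, ← Finsupp.single_add]
  obtain ⟨f, -, hfl⟩ := exists_le_sup_span_singleton (D := D - Finsupp.single P n) (hG.deg_one P)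
  rw [hE] at hfl
  have hsub : V ⊓ L (D - Finsupp.single P n) ≤
      (V ⊓ L (D - Finsupp.single P (n + 1))) ⊔ Submodule.span k {g} := by
    intro x hx
    obtain ⟨hxV, hxL⟩ := Submodule.mem_inf.1 hx
    obtain ⟨a, ha, b, hb, rfl⟩ := Submodule.mem_sup.1 (hfl hxL)
    obtain ⟨c, rfl⟩ := Submodule.mem_span_singleton.1 hb
    obtain ⟨a', ha', b', hb', hg''⟩ := Submodule.mem_sup.1 (hfl hgL)
    obtain ⟨c', rfl⟩ := Submodule.mem_span_singleton.1 hb'
    have hc' : c' ≠ 0 := fun e => hg' (by rw [← hg'', e, zero_smul, add_zero]; exact ha')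
    refine Submodule.mem_sup.2 ⟨a + c • f - (c / c') • g, Submodule.mem_inf.2 ⟨?_, ?_⟩,
      (c / c') • g, Submodule.mem_span_singleton.2 ⟨_, rfl⟩, sub_add_cancel _ _⟩
    · exact sub_mem hxV (Submodule.smul_mem _ _ hgV)
    · have : a + c • f - (c / c') • g = a - (c / c') • a' := by
        rw [← hg'', smul_add, smul_smul, div_mul_cancel₀ c hc']; abel
      rw [this]
      exact sub_mem ha (Submodule.smul_mem _ _ ha')
  have h1 : FiniteDimensional k ↥(V ⊓ L (D - Finsupp.single P (n + 1))) :=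
    Submodule.finiteDimensional_of_le (inf_le_left : _ ≤ V)
  refine (Submodule.finrank_mono hsub).trans ?_
  refine (Submodule.finrank_add_le_finrank_add_finrank _ _).trans ?_
  exact add_le_add le_rfl ((finrank_span_le_card _).trans (by simp))

theorem le_vdim (h : IsSeries D V d r) (n : ℕ) : r + 1 ≤ vdim D V P n + n := by
  induction n with
  | zero => simp [vdim_zero h]
  | succ n ih =>
    have := vdim_le_succ (P := P) hG h n
    push_cast
    omega

theorem r_le_d (h : IsSeries D V d r) (P : Place k K) : r ≤ d := by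
  have h1 := le_vdim (P := P) hG h (d + 1)
  rw [vdim_eq_zero hG h (by push_cast; omega)] at h1
  omega

theorem inf_L_eq_bot (h : IsSeries D V d r) (hPQ : P ≠ Q) {n m : ℤ} (hn : 0 ≤ n) (hm : 0 ≤ m)
    (hnm : (d : ℤ) < n + m) :
    (V ⊓ L (D - Finsupp.single P n)) ⊓ (V ⊓ L (D - Finsupp.single Q m)) = ⊥ := by
  rw [eq_bot_iff]
  intro x hx
  obtain ⟨⟨-, hxP⟩, -, hxQ⟩ := hx
  have hmem : x ∈ L (D - Finsupp.single P n - Finsupp.single Q m) := by
    rw [mem_L_sub_single_iff hm]
    refine ⟨hxP, ?_⟩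
    have := ((mem_L_sub_single_iff hm).1 hxQ).2
    simpa [Finsupp.single_apply, hPQ] using this
  rw [L_eq_bot hG] at hmem
  · exact hmem
  · rw [deg_sub, deg_sub, deg_single, deg_single, h.deg, hG.deg_one, hG.deg_one]
    omega

theorem vdim_add_vdim_le (h : IsSeries D V d r) (hPQ : P ≠ Q) {n m : ℤ} (hn : 0 ≤ n) (hm : 0 ≤ m)
    (hnm : (d : ℤ) < n + m) : vdim D V P n + vdim D V Q m ≤ r + 1 := by
  have := h.finite
  rw [← h.rank]
  have hP : FiniteDimensional k ↥(V ⊓ L (D - Finsupp.single P n)) :=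
    Submodule.finiteDimensional_of_le (inf_le_left : _ ≤ V)
  have hQ : FiniteDimensional k ↥(V ⊓ L (D - Finsupp.single Q m)) :=
    Submodule.finiteDimensional_of_le (inf_le_left : _ ≤ V)
  have := Submodule.finrank_sup_add_finrank_inf_eq (V ⊓ L (D - Finsupp.single P n))
    (V ⊓ L (D - Finsupp.single Q m))
  rw [inf_L_eq_bot hG h hPQ hn hm hnm, finrank_bot, add_zero] at this
  rw [vdim, vdim, ← this]
  exact Submodule.finrank_mono (sup_le inf_le_left inf_le_left)

theorem vsum_add_vsum_le (h : IsSeries D V d r) (hPQ : P ≠ Q) :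
    vsum D V P d + vsum D V Q d ≤ (r + 1) * d := by
  have key : ∀ n ∈ Finset.range d,
      vdim D V P ((n : ℤ) + 1) + vdim D V Q (((d - 1 - n : ℕ) : ℤ) + 1) ≤ r + 1 := by
    intro n hn
    rw [Finset.mem_range] at hn
    exact vdim_add_vdim_le hG h hPQ (by omega) (by omega) (by omega)
  have h2 := Finset.sum_le_sum key
  rw [Finset.sum_add_distrib,
    Finset.sum_range_reflect (fun n : ℕ => vdim D V Q ((n : ℤ) + 1)) d] at h2
  simpa [vsum, mul_comm] using h2

omit hG in
theorem vsum_add_vsum_eq {K' : Type*} [Field K'] [Algebra k K'] {D' : Divisor k K'}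
    {V' : Submodule k K'} {Q' : Place k K'}
    (hcomp : ∀ m : ℕ, m ≤ d + 1 → vdim D V P m + vdim D' V' Q' ((d : ℤ) + 1 - m) = r + 1) :
    vsum D V P d + vsum D' V' Q' d = (r + 1) * d := by
  have key : ∀ n ∈ Finset.range d,
      vdim D V P ((n : ℤ) + 1) + vdim D' V' Q' (((d - 1 - n : ℕ) : ℤ) + 1) = r + 1 := by
    intro n hn
    rw [Finset.mem_range] at hn
    have := hcomp (n + 1) (by omega)
    rwa [show (d : ℤ) + 1 - ((n + 1 : ℕ) : ℤ) = ((d - 1 - n : ℕ) : ℤ) + 1 by omega,
      Nat.cast_add, Nat.cast_one] at this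
  have h2 := Finset.sum_congr rfl key
  rw [Finset.sum_add_distrib,
    Finset.sum_range_reflect (fun n : ℕ => vdim D' V' Q' ((n : ℤ) + 1)) d] at h2
  simpa [vsum, mul_comm] using h2

omit hG in
theorem vsum_split (D : Divisor k K) (V : Submodule k K) (P : Place k K) (j e : ℕ) :
    vsum D V P (j + e) =
      vsum D V P j + ∑ n ∈ Finset.range e, vdim D V P (((j + n : ℕ) : ℤ) + 1) :=
  Finset.sum_range_add _ j e

omit hG in
theorem sum_range_sub (r : ℕ) : ∑ n ∈ Finset.range r, (r - n) = r * (r + 1) / 2 := by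
  have h := Finset.sum_range_reflect (fun n : ℕ => n) (r + 1)
  rw [Finset.sum_range_succ] at h
  simp only [add_tsub_cancel_right, tsub_self, add_zero] at h
  rw [h, Finset.sum_range_id, add_tsub_cancel_right, mul_comm]

theorem tri_le_vsum (h : IsSeries D V d r) (P : Place k K) : r * (r + 1) / 2 ≤ vsum D V P d := by
  have hrd := r_le_d hG h P
  calc r * (r + 1) / 2 = ∑ n ∈ Finset.range r, (r - n) := (sum_range_sub r).symm
    _ ≤ ∑ n ∈ Finset.range r, vdim D V P ((n : ℤ) + 1) := Finset.sum_le_sum fun n _ => by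
        have := le_vdim (P := P) hG h (n + 1)
        push_cast at this
        omega
    _ ≤ vsum D V P d := Finset.sum_le_sum_of_subset (Finset.range_mono hrd)

theorem tri_add_le_vsum_of_cusp (h : IsSeries D V d r) (hc : r ≤ vdim D V Q 2) :
    r + r * (r + 1) / 2 ≤ vsum D V Q d := by
  rcases Nat.eq_zero_or_pos r with rfl | hr
  · simp
  have hstep : ∀ n : ℕ, r ≤ vdim D V Q ((n : ℤ) + 2) + n := by
    intro n
    induction n with
    | zero => simpa using hc
    | succ n ih =>
      have := vdim_le_succ (P := Q) hG h ((n : ℤ) + 2)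
      rw [show ((n + 1 : ℕ) : ℤ) + 2 = (n : ℤ) + 2 + 1 by push_cast; ring]
      omega
  have hrd : r + 1 ≤ d := by
    by_contra hlt
    have h1 := hstep (r - 1)
    rw [vdim_eq_zero hG h (by omega)] at h1
    omega
  have h1 : r ≤ vdim D V Q 1 := hc.trans (vdim_anti h (by norm_num))
  calc r + r * (r + 1) / 2
      = r + ∑ n ∈ Finset.range r, (r - n) := by rw [sum_range_sub]
    _ ≤ ∑ n ∈ Finset.range (r + 1), vdim D V Q ((n : ℤ) + 1) := by
        rw [Finset.sum_range_succ' (fun n : ℕ => vdim D V Q ((n : ℤ) + 1)), add_comm r]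
        refine add_le_add (Finset.sum_le_sum fun n _ => ?_) (by simpa using h1)
        have := hstep n
        rw [show ((n + 1 : ℕ) : ℤ) + 1 = (n : ℤ) + 2 by push_cast; ring]
        omega
    _ ≤ vsum D V Q d := Finset.sum_le_sum_of_subset (Finset.range_mono hrd)

end Groth.Funfld2
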