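import Groth.Agent.Funfld2.LLS.PolyPlucker
import Groth.Agent.Funfld2.LLS.Basic

/-! Linear series on a function field of genus zero: the Plücker inequality and its use with cusps. -/

open FunFld Polynomial
open scoped WithZero

namespace Groth.Funfld2

variable {k K : Type*} [Field k] [Field K] [Algebra k K]

/-- Riemann's inequality in genus zero. -/
def RiemannZero (k K : Type*) [Field k] [Field K] [Algebra k K] : Prop :=
  ∀ D : Divisor k K, D.deg + 1 ≤ (ell D : ℤ)

theorem riemannZero_of_genus_eq_zero (hg : genus k K = 0)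
    (hb : BddAbove (Set.range fun D : Divisor k K => (D.deg + 1 - (ell D : ℤ)).toNat)) :
    RiemannZero k K := by
  intro D
  have h : (D.deg + 1 - (ell D : ℤ)).toNat ≤ genus k K := le_csSup hb ⟨D, rfl⟩
  omega

variable (hG : Good k K)
include hG

theorem ell_le_one_of_deg_nonpos {D : Divisor k K} (h : D.deg ≤ 0) (P : Place k K) : ell D ≤ 1 := by
  obtain ⟨f, -, hle⟩ := exists_le_sup_span_singleton (D := D) (hG.deg_one P)
  rw [L_eq_bot (D := D - Finsupp.single P 1) hG (by rw [deg_sub, deg_single, hG.deg_one]; omega),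
    bot_sup_eq] at hle
  exact (Submodule.finrank_mono hle).trans ((finrank_span_le_card _).trans (by simp))

theorem ell_le_toNat (D : Divisor k K) (P : Place k K) : ell D ≤ (D.deg + 1).toNat := by
  suffices ∀ m : ℕ, ∀ D : Divisor k K, D.deg < m → ell D ≤ m from
    this _ D (by omega)
  intro m
  induction m with
  | zero => intro D hD; rw [ell, L_eq_bot hG (by omega), finrank_bot]
  | succ m ih =>
    intro D hD
    obtain ⟨f, -, hle⟩ := exists_le_sup_span_singleton (D := D) (hG.deg_one P)
    have h1 := ih (D - Finsupp.single P 1) (by rw [deg_sub, deg_single, hG.deg_one P]; omega)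
    have := finiteDimensional_L_of_place hG P (D - Finsupp.single P 1)
    refine (Submodule.finrank_mono hle).trans ?_
    refine (Submodule.finrank_add_le_finrank_add_finrank _ _).trans ?_
    exact add_le_add h1 ((finrank_span_le_card _).trans (by simp))

theorem mem_range_algebraMap_of_mem_L_zero (P : Place k K) {x : K}
    (hx : x ∈ L (0 : Divisor k K)) : x ∈ Set.range (algebraMap k K) := by
  have := finiteDimensional_L_of_place hG P (0 : Divisor k K)
  have h1 : Submodule.span k {(1 : K)} ≤ L (0 : Divisor k K) := by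
    rw [Submodule.span_singleton_le_iff_mem]
    intro Q
    simp
  have h2 : Submodule.span k {(1 : K)} = L (0 : Divisor k K) := by
    refine Submodule.eq_of_le_of_finrank_le h1 ?_
    rw [finrank_span_singleton (one_ne_zero : (1 : K) ≠ 0)]
    exact ell_le_one_of_deg_nonpos hG deg_zero'.le P
  rw [← h2] at hx
  obtain ⟨c, rfl⟩ := Submodule.mem_span_singleton.1 hx
  exact ⟨c, by rw [Algebra.smul_def, mul_one]⟩

/-- A coordinate with its only (simple) pole at `O`. -/
structure Coord (O : Place k K) where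
  x : K
  ord_eq : O.ord x = -1
  le_one : ∀ P : Place k K, P ≠ O → P.1 x ≤ 1

theorem exists_coord (h0 : RiemannZero k K) (O : Place k K) : Nonempty (Coord O) := by
  have h := h0 (Finsupp.single O 1)
  rw [deg_single, hG.deg_one] at h
  have hne : ¬ (L (Finsupp.single O 1) : Submodule k K) ≤ L (0 : Divisor k K) := by
    intro hle
    have := finiteDimensional_L_of_place hG O (0 : Divisor k K)
    have h1 : ell (Finsupp.single O 1) ≤ ell (0 : Divisor k K) := Submodule.finrank_mono hle
    have h2 := ell_le_one_of_deg_nonpos hG (D := (0 : Divisor k K)) deg_zero'.le O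
    omega
  obtain ⟨x, hx, hx'⟩ := SetLike.not_le_iff_exists.1 hne
  have hx0 : x ≠ 0 := fun e => hx' (e ▸ zero_mem _)
  have hle : ∀ P : Place k K, P ≠ O → P.1 x ≤ 1 := by
    intro P hP
    simpa [Finsupp.single_apply, hP.symm] using hx P
  refine ⟨⟨x, ?_, hle⟩⟩
  have h1 := (mem_L_iff_ord hx0).1 hx O
  rw [Finsupp.single_eq_same] at h1
  by_contra hord
  refine hx' ((mem_L_iff_ord hx0).2 fun P => ?_)
  simp only [Finsupp.coe_zero, Pi.zero_apply, add_zero]
  rcases eq_or_ne P O with rfl | hP
  · omega
  · exact (val_le_one_iff_ord P hx0).1 (hle P hP)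

variable {O : Place k K} (c : Coord O)

omit hG in
theorem Coord.x_ne_zero : c.x ≠ 0 := by
  intro h
  have := c.ord_eq
  simp [h, Place.ord] at this

omit hG in
theorem Coord.val_x : O.1 c.x = WithZero.exp 1 := by
  rw [val_eq_exp_ord O c.x_ne_zero, c.ord_eq]
  norm_num

omit hG in
theorem Coord.val_aeval_of_ne {P : Place k K} (hP : P ≠ O) (p : k[X]) :
    P.1 (aeval c.x p) ≤ 1 := by
  induction p using Polynomial.induction_on' with
  | add p q hp hq => rw [map_add]; exact (P.1.map_add _ _).trans (max_le hp hq)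
  | monomial n a =>
    rw [aeval_monomial, map_mul, map_pow]
    exact mul_le_one' (P.2.1 a) (pow_le_one' (c.le_one P hP) n)

omit hG in
theorem Coord.val_aeval {p : k[X]} (hp : p ≠ 0) :
    O.1 (aeval c.x p) = WithZero.exp (p.natDegree : ℤ) := by
  have hmono : ∀ {n : ℕ} {a : k}, a ≠ 0 → O.1 (aeval c.x (monomial n a)) = WithZero.exp (n : ℤ) := by
    intro n a ha
    rw [aeval_monomial, map_mul, map_pow, val_algebraMap O ha, one_mul, c.val_x,
      ← WithZero.exp_nsmul]
    simp
  rw [aeval_eq_sum_range, Finset.sum_range_succ]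
  have htop : O.1 (p.coeff p.natDegree • c.x ^ p.natDegree) = WithZero.exp (p.natDegree : ℤ) := by
    rw [← hmono (n := p.natDegree) (leadingCoeff_ne_zero.2 hp), aeval_monomial, Algebra.smul_def]
    rfl
  rw [Valuation.map_add_eq_of_lt_right O.1, htop]
  rw [htop]
  refine O.1.map_sum_lt WithZero.exp_ne_zero fun i hi => ?_
  by_cases ha : p.coeff i = 0
  · simp [ha]
  · rw [Algebra.smul_def, ← aeval_monomial, hmono ha, WithZero.exp_lt_exp]
    exact_mod_cast Finset.mem_range.1 hi

omit hG in
theorem Coord.aeval_injective : Function.Injective (aeval (R := k) c.x) := by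
  rw [injective_iff_map_eq_zero]
  intro p hp
  by_contra h
  have := c.val_aeval h
  rw [hp, map_zero] at this
  exact WithZero.exp_ne_zero this.symm

omit hG in
theorem Coord.aeval_mem_L_iff (n : ℕ) (p : k[X]) :
    aeval c.x p ∈ L (Finsupp.single O (n : ℤ)) ↔ p ∈ degreeLT k (n + 1) := by
  classical
  rcases eq_or_ne p 0 with rfl | hp
  · simp
  rw [mem_degreeLT, degree_eq_natDegree hp, Nat.cast_lt]
  constructor
  · intro h
    have := h O
    rw [c.val_aeval hp, Finsupp.single_eq_same, WithZero.exp_le_exp] at this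
    omega
  · intro h P
    rcases eq_or_ne P O with rfl | hP
    · rw [c.val_aeval hp, Finsupp.single_eq_same, WithZero.exp_le_exp]
      omega
    · rw [Finsupp.single_apply, if_neg hP.symm, WithZero.exp_zero]
      exact c.val_aeval_of_ne hP p

theorem Coord.map_degreeLT (n : ℕ) :
    (degreeLT k (n + 1)).map (aeval (R := k) c.x).toLinearMap = L (Finsupp.single O (n : ℤ)) := by
  have := finiteDimensional_L_of_place hG O (Finsupp.single O (n : ℤ))
  refine Submodule.eq_of_le_of_finrank_le ?_ ?_
  · rintro _ ⟨p, hp, rfl⟩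
    exact (c.aeval_mem_L_iff n p).2 hp
  · rw [← (Submodule.equivMapOfInjective _ (by exact c.aeval_injective) _).finrank_eq,
      (degreeLTEquiv k (n + 1)).finrank_eq, Module.finrank_fin_fun]
    refine (ell_le_toNat hG _ O).trans ?_
    rw [deg_single, hG.deg_one]
    omega

theorem Coord.exists_value {P : Place k K} (hP : P ≠ O) :
    ∃ a : k, P.1 (c.x - algebraMap k K a) = WithZero.exp (-1) ∧
      ∀ R : Place k K, R ≠ O → R.1 (c.x - algebraMap k K a) < 1 → R = P := by
  classical
  obtain ⟨a, ha⟩ := exists_const_residue (hG.deg_one P) (c.le_one P hP)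
  refine ⟨a, ?_⟩
  set y := c.x - algebraMap k K a with hy
  have haev : y = aeval c.x (X - C a) := by simp [hy]
  have hy0 : y ≠ 0 := by
    rw [haev]
    exact fun e => X_sub_C_ne_zero a (c.aeval_injective (e.trans (map_zero _).symm))
  have hmem : y ∈ L (Finsupp.single O ((1 : ℕ) : ℤ)) := by
    rw [haev, c.aeval_mem_L_iff, mem_degreeLT, degree_X_sub_C]
    exact WithBot.coe_lt_coe.2 (by norm_num)
  set E := FunFld.div k y + Finsupp.single O ((1 : ℕ) : ℤ) with hE
  have hEpos : 0 ≤ E := div_add_nonneg hG hmem hy0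
  have hEdeg : E.deg = 1 := by
    rw [hE, deg_add, hG.deg_div y hy0, deg_single, hG.deg_one]
    norm_num
  have hEP : 1 ≤ E P := by
    have := (val_lt_one_iff_ord P hy0).1 ha
    rw [hE, Finsupp.add_apply, div_apply hG, Finsupp.single_apply, if_neg hP.symm]
    omega
  have hEeq : E - Finsupp.single P 1 = 0 := by
    refine eq_zero_of_nonneg_of_deg hG (fun R => ?_) (by rw [deg_sub, hEdeg, deg_single, hG.deg_one]; norm_num)
    rw [Finsupp.sub_apply, Finsupp.single_apply]
    have := hEpos R
    simp only [Finsupp.coe_zero, Pi.zero_apply] at this ⊢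
    split_ifs with h
    · subst h; omega
    · omega
  rw [sub_eq_zero] at hEeq
  constructor
  · have h1 := DFunLike.congr_fun hEeq P
    rw [hE, Finsupp.add_apply, div_apply hG, Finsupp.single_apply, if_neg hP.symm,
      Finsupp.single_eq_same, add_zero] at h1
    rw [val_eq_exp_ord P hy0, h1]
  · intro R hR hlt
    have h1 := DFunLike.congr_fun hEeq R
    rw [hE, Finsupp.add_apply, div_apply hG, Finsupp.single_apply, if_neg hR.symm,
      Finsupp.single_apply] at h1
    have := (val_lt_one_iff_ord R hy0).1 hlt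
    by_contra hne
    rw [if_neg (Ne.symm hne)] at h1
    omega

omit hG in
theorem Coord.val_aeval_le_iff {P : Place k K} (hP : P ≠ O) {a : k}
    (ha : P.1 (c.x - algebraMap k K a) = WithZero.exp (-1)) (p : k[X]) (n : ℕ) :
    P.1 (aeval c.x p) ≤ WithZero.exp (-(n : ℤ)) ↔ (X - C a) ^ n ∣ p := by
  rcases eq_or_ne p 0 with rfl | hp
  · simp
  obtain ⟨q, hq, hqa⟩ := exists_eq_pow_rootMultiplicity_mul_and_not_dvd p hp a
  have hq1 : P.1 (aeval c.x q) = 1 := by
    obtain ⟨q1, hq1⟩ := X_sub_C_dvd_sub_C_eval (a := a) (p := q)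
    have e : aeval c.x q = algebraMap k K (q.eval a) + (c.x - algebraMap k K a) * aeval c.x q1 := by
      conv_lhs => rw [← sub_add_cancel q (C (q.eval a)), hq1]
      simp [add_comm]
    have hev : q.eval a ≠ 0 := fun h => hqa (dvd_iff_isRoot.2 h)
    rw [e, Valuation.map_add_eq_of_lt_left P.1, val_algebraMap P hev]
    rw [val_algebraMap P hev, map_mul, ha]
    calc WithZero.exp (-1 : ℤ) * P.1 (aeval c.x q1) ≤ WithZero.exp (-1 : ℤ) * 1 :=
          mul_le_mul_right (c.val_aeval_of_ne hP q1) _
      _ < 1 := by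
          rw [mul_one, ← WithZero.exp_zero, WithZero.exp_lt_exp]
          norm_num
  have hv : P.1 (aeval c.x p) = WithZero.exp (-(p.rootMultiplicity a : ℤ)) := by
    conv_lhs => rw [hq]
    rw [map_mul, map_mul, map_pow, map_pow, hq1, mul_one, aeval_sub, aeval_X, aeval_C, ha,
      ← WithZero.exp_nsmul]
    simp
  rw [hv, WithZero.exp_le_exp, ← le_rootMultiplicity_iff hp]
  omega

omit hG in
theorem finrank_map_comap {W : Type*} [AddCommGroup W] [Module k W] (Λ : W →ₗ[k] K)
    (hΛ : Function.Injective Λ) (V : Submodule k K) (hV : V ≤ LinearMap.range Λ) :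
    Module.finrank k (V.comap Λ) = Module.finrank k V := by
  rw [(Submodule.equivMapOfInjective Λ hΛ _).finrank_eq, Submodule.map_comap_eq,
    inf_eq_right.2 hV]

/-- The Plücker inequality for a linear series on a genus zero function field. -/
theorem plucker [CharZero k] (h0 : RiemannZero k K) {D : Divisor k K} {V : Submodule k K} {d r : ℕ}
    (hS : IsSeries D V d r) (S : Finset (Place k K)) (hSne : S.Nonempty) :
    (∑ P ∈ S, vsum D V P d) + r * (r + 1) ≤ (r + 1) * d + S.card * (r * (r + 1) / 2) := by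
  classical
  obtain ⟨O, hO⟩ := hSne
  obtain ⟨c⟩ := exists_coord hG h0 O
  -- move `D` to `d • O`
  set E : Divisor k K := Finsupp.single O (d : ℤ) - D with hE
  have hEdeg : E.deg = 0 := by rw [hE, deg_sub, deg_single, hG.deg_one, hS.deg]; norm_num
  obtain ⟨h, hh, hh0⟩ : ∃ h ∈ L E, h ≠ 0 := by
    refine Submodule.exists_mem_ne_zero_of_ne_bot fun e => ?_
    have := h0 E
    rw [hEdeg, ell, e, finrank_bot] at this
    omega
  have hdivh : ∀ P : Place k K, P.1 h = WithZero.exp (E P) := by
    intro P
    have h1 := eq_zero_of_nonneg_of_deg hG (div_add_nonneg hG hh hh0)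
      (by rw [deg_add, hG.deg_div h hh0, hEdeg]; norm_num)
    have h2 := DFunLike.congr_fun h1 P
    rw [Finsupp.add_apply, div_apply hG, Finsupp.coe_zero, Pi.zero_apply] at h2
    rw [val_eq_exp_ord P hh0, WithZero.exp_inj]
    omega
  let Λ : k[X] →ₗ[k] K := (LinearMap.mulLeft k h⁻¹) ∘ₗ (aeval (R := k) c.x).toLinearMap
  have hΛ : Function.Injective Λ := fun p q e =>
    c.aeval_injective (mul_left_cancel₀ (inv_ne_zero hh0) e)
  have hiff : ∀ (F : Divisor k K) (p : k[X]), Λ p ∈ L F ↔ aeval c.x p ∈ L (F + E) := by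
    intro F p
    simp only [mem_L_iff]
    refine forall_congr' fun P => ?_
    change P.1 (h⁻¹ * aeval c.x p) ≤ _ ↔ _
    rw [map_mul, map_inv₀, hdivh, Finsupp.add_apply,
      inv_mul_le_iff₀ (WithZero.exp_pos), ← WithZero.exp_add, add_comm]
  have hDE : D + E = Finsupp.single O (d : ℤ) := add_sub_cancel D _
  have hrange : V ≤ (degreeLT k (d + 1)).map Λ := by
    intro v hv
    have hmem : h * v ∈ L (Finsupp.single O (d : ℤ)) := by
      intro P
      rw [map_mul, hdivh, ← hDE, Finsupp.add_apply, add_comm (D P), WithZero.exp_add]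
      exact mul_le_mul_right (hS.le hv P) _
    rw [← c.map_degreeLT hG] at hmem
    obtain ⟨p, hp, hpv⟩ := hmem
    exact ⟨p, hp, show h⁻¹ * aeval c.x p = v by
      rw [show aeval c.x p = h * v from hpv, inv_mul_cancel_left₀ hh0]⟩
  set V' := V.comap Λ with hV'
  have hV'le : V' ≤ degreeLT k (d + 1) := fun p hp => by
    obtain ⟨q, hq, hpq⟩ := hrange hp
    exact hΛ hpq ▸ hq
  have hrk : Module.finrank k V' = r + 1 := by
    rw [hV', finrank_map_comap Λ hΛ V (hrange.trans LinearMap.map_le_range), hS.rank]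
  have key : ∀ P ∈ S.erase O, ∃ a : k, (∀ n, Module.finrank k (polyAt V' a n) = vdim D V P n) ∧
      P.1 (c.x - algebraMap k K a) < 1 ∧
      ∀ R : Place k K, R ≠ O → R.1 (c.x - algebraMap k K a) < 1 → R = P := by
    intro P hP
    have hPO := Finset.ne_of_mem_erase hP
    obtain ⟨a, ha, huniq⟩ := c.exists_value hG hPO
    refine ⟨a, fun n => ?_, by rw [ha, ← WithZero.exp_zero, WithZero.exp_lt_exp]; norm_num, huniq⟩
    have he : polyAt V' a n = (V ⊓ L (D - Finsupp.single P (n : ℤ))).comap Λ := by
      ext p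
      simp only [polyAt, Submodule.mem_inf, Submodule.restrictScalars_mem,
        Ideal.mem_span_singleton, Submodule.mem_comap, hV']
      refine and_congr_right fun hp => ?_
      rw [hiff, sub_add_eq_add_sub, hDE, mem_L_sub_single_iff (Int.natCast_nonneg n),
        Finsupp.single_apply, if_neg hPO.symm, zero_sub, c.val_aeval_le_iff hPO ha,
        c.aeval_mem_L_iff]
      exact (and_iff_right (hV'le hp)).symm
    rw [he, finrank_map_comap Λ hΛ]
    · rfl
    · exact inf_le_left.trans (hrange.trans LinearMap.map_le_range)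
  have hinf : ∀ n < d, Module.finrank k (polyInf V' d (n + 1)) = vdim D V O ((n : ℤ) + 1) := by
    intro n hn
    have he : polyInf V' d (n + 1) = (V ⊓ L (D - Finsupp.single O ((n : ℤ) + 1))).comap Λ := by
      ext p
      simp only [polyInf, Submodule.mem_inf, Submodule.mem_comap, hV']
      refine and_congr_right fun _ => ?_
      rw [hiff, sub_add_eq_add_sub, hDE, ← Finsupp.single_sub,
        show (d : ℤ) - ((n : ℤ) + 1) = ((d - (n + 1) : ℕ) : ℤ) by omega,
        c.aeval_mem_L_iff, show d + 1 - (n + 1) = d - (n + 1) + 1 by omega]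
    rw [he, finrank_map_comap Λ hΛ]
    · rfl
    · exact inf_le_left.trans (hrange.trans LinearMap.map_le_range)
  choose! a ha halt hauniq using key
  have hainj : Set.InjOn a (S.erase O) := fun P hP Q hQ e =>
    (hauniq P hP Q (Finset.ne_of_mem_erase hQ) (e ▸ halt Q hQ)).symm
  have hp := poly_plucker V' hV'le hrk ((S.erase O).image a)
  rw [Finset.sum_image hainj, Finset.card_image_of_injOn hainj, Finset.card_erase_of_mem hO] at hp
  rw [← Finset.sum_erase_add S _ hO, vsum]
  have e1 : ∑ P ∈ S.erase O, vsum D V P d =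
      ∑ P ∈ S.erase O, ∑ n ∈ Finset.range d, Module.finrank k (polyAt V' (a P) (n + 1)) := by
    refine Finset.sum_congr rfl fun P hP => Finset.sum_congr rfl fun n _ => ?_
    rw [ha P hP (n + 1)]
    push_cast
    rfl
  rw [e1, ← Finset.sum_congr rfl fun n hn => hinf n (Finset.mem_range.1 hn)]
  rwa [Nat.sub_add_cancel (Finset.card_pos.2 ⟨O, hO⟩)] at hp

end Groth.Funfld2
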