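import Groth.Agent.Funfld2.LLS.Basic

/-! Compatibility at nodes, chains of linear series. -/

open FunFld

namespace Groth.Funfld2

variable {k : Type*} [Field k]

theorem vdim_le_of_compatible {KY KZ : Type*} [Field KY] [Algebra k KY] [Field KZ] [Algebra k KZ]
    (hGY : Good k KY) {d r : ℕ} {DY : Divisor k KY} {DZ : Divisor k KZ}
    {VY : Submodule k KY} {VZ : Submodule k KZ} (hY : IsSeries DY VY d r)
    {P P' : Place k KY} {Q : Place k KZ}
    (hcomp : ∀ n : ℕ, n ≤ d + 1 → vdim DY VY P n + vdim DZ VZ Q ((d : ℤ) + 1 - n) = r + 1)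
    (hP' : P' ≠ P) (n : ℕ) : vdim DY VY P' n ≤ vdim DZ VZ Q n := by
  rcases le_or_gt n (d + 1) with hn | hn
  · have h1 := hcomp (d + 1 - n) (by omega)
    rw [Nat.cast_sub hn] at h1
    push_cast at h1
    rw [sub_sub_cancel] at h1
    have h2 := vdim_add_vdim_le hGY hY hP' (n := (n : ℤ)) (m := (d : ℤ) + 1 - n) (by omega)
      (by omega) (by omega)
    omega
  · rw [vdim_eq_zero hGY hY (by omega)]
    exact Nat.zero_le _

variable {n : ℕ} {U : Fin (n + 1) → Type*} [∀ l, Field (U l)] [∀ l, Algebra k (U l)]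
  (hG : ∀ l, Good k (U l)) {d r : ℕ} {D : ∀ l, Divisor k (U l)} {V : ∀ l, Submodule k (U l)}
  (hS : ∀ l, IsSeries (D l) (V l) d r) {A B : ∀ l, Place k (U l)}
  (hAB : ∀ l : Fin (n + 1), 0 < (l : ℕ) → (l : ℕ) < n → A l ≠ B l)
  (hcomp : ∀ (l : Fin n) (m : ℕ), m ≤ d + 1 →
    vdim (D l.castSucc) (V l.castSucc) (B l.castSucc) m +
      vdim (D l.succ) (V l.succ) (A l.succ) ((d : ℤ) + 1 - m) = r + 1)

include hG hS hAB hcomp

theorem vsum_down_chain {c : ℕ}
    (hc : vsum (D 0) (V 0) (B 0) d + c + r * (r + 1) ≤ (r + 1) * d + r * (r + 1) / 2)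
    (l : Fin (n + 1)) (hl : 0 < (l : ℕ)) :
    c + r * (r + 1) / 2 ≤ vsum (D l) (V l) (A l) d := by
  obtain ⟨j, rfl⟩ : ∃ j : Fin n, j.succ = l :=
    ⟨⟨l - 1, by omega⟩, Fin.ext (by simp only [Fin.val_succ]; omega)⟩
  obtain ⟨j, hj⟩ := j
  have hR : 2 * (r * (r + 1) / 2) = r * (r + 1) :=
    Nat.mul_div_cancel' (Nat.even_mul_succ_self r).two_dvd
  induction j with
  | zero =>
    have := vsum_add_vsum_eq (hcomp ⟨0, hj⟩)
    rw [show (⟨0, hj⟩ : Fin n).castSucc = 0 from rfl] at this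
    omega
  | succ j ih =>
    have h1 := ih (by omega) (by simp)
    have h2 := vsum_add_vsum_eq (hcomp ⟨j + 1, hj⟩)
    have hne := hAB (⟨j, by omega⟩ : Fin n).succ (by simp) (by simp; omega)
    have h3 := vsum_add_vsum_le (hG _) (hS (⟨j, by omega⟩ : Fin n).succ) hne
    rw [show (⟨j + 1, hj⟩ : Fin n).castSucc = (⟨j, by omega⟩ : Fin n).succ from rfl] at h2
    omega

/-- `dim V_l(-2 B_l) ≥ r` propagates up a chain from an end with `dim V(-(d-1)A) ≤ 1`. -/
theorem cusp_up_chain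
    (hlast : vdim (D (Fin.last n)) (V (Fin.last n)) (A (Fin.last n)) ((d : ℤ) - 1) ≤ 1)
    (l : Fin n) : r ≤ vdim (D l.castSucc) (V l.castSucc) (B l.castSucc) 2 := by
  obtain ⟨l, hl⟩ := l
  suffices ∀ e : ℕ, ∀ l : ℕ, (h : l < n) → n = l + 1 + e →
      r ≤ vdim (D (⟨l, h⟩ : Fin n).castSucc) (V (⟨l, h⟩ : Fin n).castSucc)
        (B (⟨l, h⟩ : Fin n).castSucc) 2 from this (n - l - 1) l hl (by omega)
  intro e
  induction e with
  | zero =>
    intro l h he
    rcases Nat.eq_zero_or_pos d with hd | hd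
    · have := r_le_d (hG 0) (hS 0) (A 0)
      omega
    have hc := hcomp ⟨l, h⟩ 2 (by omega)
    rw [show (⟨l, h⟩ : Fin n).succ = Fin.last n from Fin.ext (by simp; omega),
      show (d : ℤ) + 1 - ((2 : ℕ) : ℤ) = (d : ℤ) - 1 by omega] at hc
    exact le_of_add_le_add_right (a := 1) (by rw [← hc]; exact add_le_add_right hlast _)
  | succ e ih =>
    intro l h he
    rcases Nat.eq_zero_or_pos d with hd | hd
    · have := r_le_d (hG 0) (hS 0) (A 0)
      omega
    have hc := hcomp ⟨l, h⟩ 2 (by omega)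
    rw [show (d : ℤ) + 1 - ((2 : ℕ) : ℤ) = (d : ℤ) - 1 by omega] at hc
    have h1 := ih (l + 1) (by omega) (by omega)
    rw [show (⟨l + 1, by omega⟩ : Fin n).castSucc = (⟨l, h⟩ : Fin n).succ from rfl] at h1
    have h2 := vdim_add_vdim_le (hG _) (hS (⟨l, h⟩ : Fin n).succ)
      (hAB _ (by simp) (by simp; omega)) (n := (d : ℤ) - 1) (m := 2) (by omega) (by omega) (by omega)
    simp only [Nat.cast_ofNat] at hc
    omega

end Groth.Funfld2
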