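import Groth.Agent.Funfld2.LLS.GenusZero
import Groth.Agent.Funfld2.LLS.Chain

/-! Weights along backbones of rational components. -/

open FunFld

namespace Groth.Funfld2

theorem two_mul_tri (r : ℕ) : 2 * (r * (r + 1) / 2) = r * (r + 1) :=
  Nat.mul_div_cancel' (Nat.even_mul_succ_self r).two_dvd

section One

variable {k K : Type*} [Field k] [CharZero k] [Field K] [Algebra k K] (hG : Good k K)
  (h0 : RiemannZero k K) {D : Divisor k K} {V : Submodule k K} {d r : ℕ} (hS : IsSeries D V d r)

include hG h0 hS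

theorem plucker1 (P : Place k K) : vsum D V P d + r * (r + 1) / 2 ≤ (r + 1) * d := by
  have h := plucker hG h0 hS {P} (Finset.singleton_nonempty P)
  rw [Finset.sum_singleton, Finset.card_singleton] at h
  have := two_mul_tri r
  omega

theorem plucker2 {P Q : Place k K} (h : P ≠ Q) :
    vsum D V P d + vsum D V Q d + r * (r + 1) ≤ (r + 1) * d + 2 * (r * (r + 1) / 2) := by
  classical
  have h1 := plucker hG h0 hS {P, Q} ⟨P, Finset.mem_insert_self _ _⟩
  rwa [Finset.sum_pair h, Finset.card_pair h] at h1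

theorem plucker3 {P Q R : Place k K} (hPQ : P ≠ Q) (hPR : P ≠ R) (hQR : Q ≠ R) :
    vsum D V P d + vsum D V Q d + vsum D V R d + r * (r + 1) ≤
      (r + 1) * d + 3 * (r * (r + 1) / 2) := by
  classical
  have h := plucker hG h0 hS {P, Q, R} ⟨P, Finset.mem_insert_self _ _⟩
  rw [Finset.sum_insert (by simp [hPQ, hPR]), Finset.sum_pair hQR,
    Finset.card_insert_of_notMem (by simp [hPQ, hPR]), Finset.card_pair hQR, ← add_assoc] at h
  exact h

theorem plucker4 {P Q R T : Place k K} (hPQ : P ≠ Q) (hPR : P ≠ R) (hQR : Q ≠ R) (hPT : P ≠ T)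
    (hQT : Q ≠ T) (hRT : R ≠ T) :
    vsum D V P d + vsum D V Q d + vsum D V R d + vsum D V T d + r * (r + 1) ≤
      (r + 1) * d + 4 * (r * (r + 1) / 2) := by
  classical
  have h := plucker hG h0 hS {P, Q, R, T} ⟨P, Finset.mem_insert_self _ _⟩
  rw [Finset.sum_insert (by simp [hPQ, hPR, hPT]), Finset.sum_insert (by simp [hQR, hQT]),
    Finset.sum_pair hRT, Finset.card_insert_of_notMem (by simp [hPQ, hPR, hPT]),
    Finset.card_insert_of_notMem (by simp [hQR, hQT]), Finset.card_pair hRT, ← add_assoc,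
    ← add_assoc] at h
  exact h

end One

variable {k : Type*} [Field k] [CharZero k] {N : ℕ} {Z : Fin (N + 1) → Type*} [∀ i, Field (Z i)]
  [∀ i, Algebra k (Z i)] (hG : ∀ i, Good k (Z i)) (h0 : ∀ i, RiemannZero k (Z i))
  {d r : ℕ} {D : ∀ i, Divisor k (Z i)} {V : ∀ i, Submodule k (Z i)}
  (hS : ∀ i, IsSeries (D i) (V i) d r) {A B : ∀ i, Place k (Z i)}
  (hAB : ∀ i : Fin (N + 1), 0 < (i : ℕ) → (i : ℕ) < N → A i ≠ B i)
  (hcomp : ∀ (l : Fin N) (m : ℕ), m ≤ d + 1 →
    vdim (D l.castSucc) (V l.castSucc) (B l.castSucc) m +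
      vdim (D l.succ) (V l.succ) (A l.succ) ((d : ℤ) + 1 - m) = r + 1)
  (T : Finset (Fin (N + 1))) {Q : ∀ i, Place k (Z i)}
  (hQA : ∀ i ∈ T, 0 < (i : ℕ) → Q i ≠ A i) (hQB : ∀ i ∈ T, (i : ℕ) < N → Q i ≠ B i)
  (hcusp : ∀ i ∈ T, r ≤ vdim (D i) (V i) (Q i) 2)

/-- The number of marked components strictly below `i`. -/
def below (i : Fin (N + 1)) : ℕ := (T.filter (· < i)).card

/-- The number of marked components strictly above `i`. -/
def above (i : Fin (N + 1)) : ℕ := (T.filter (i < ·)).card

/-- Indicator of a marked component. -/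
def marked (i : Fin (N + 1)) : ℕ := if i ∈ T then 1 else 0

omit [CharZero k] in
theorem below_succ (l : Fin N) : below T l.succ = below T l.castSucc + marked T l.castSucc := by
  rw [below, below, marked]
  have : T.filter (· < l.succ) = T.filter (· < l.castSucc) ∪ T.filter (· = l.castSucc) := by
    ext j
    simp only [Finset.mem_filter, Finset.mem_union, Fin.lt_def, Fin.ext_iff, Fin.val_succ,
      Fin.val_castSucc, ← and_or_left]
    exact and_congr_right fun _ => Nat.lt_succ_iff.trans le_iff_lt_or_eq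
  rw [this, Finset.card_union_of_disjoint, Finset.filter_eq']
  · split_ifs <;> simp
  · rw [Finset.disjoint_filter]
    exact fun j _ h e => (ne_of_lt h) e

omit [CharZero k] in
theorem above_castSucc (l : Fin N) : above T l.castSucc = above T l.succ + marked T l.succ := by
  rw [above, above, marked]
  have : T.filter (l.castSucc < ·) = T.filter (l.succ < ·) ∪ T.filter (· = l.succ) := by
    ext j
    simp only [Finset.mem_filter, Finset.mem_union, Fin.lt_def, Fin.ext_iff, Fin.val_succ,
      Fin.val_castSucc, ← and_or_left]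
    exact and_congr_right fun _ => Nat.succ_le_iff.symm.trans (le_iff_lt_or_eq.trans
      (or_congr Iff.rfl eq_comm))
  rw [this, Finset.card_union_of_disjoint, Finset.filter_eq']
  · split_ifs <;> simp
  · rw [Finset.disjoint_filter]
    exact fun j _ h e => (ne_of_gt h) e

omit [CharZero k] in
theorem below_zero : below T 0 = 0 := by simp [below, Fin.not_lt.2 (Fin.zero_le _)]

omit [CharZero k] in
theorem above_last : above T (Fin.last N) = 0 := by simp [above, Fin.not_lt.2 (Fin.le_last _)]

omit [CharZero k] in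
theorem below_add_above (i : Fin (N + 1)) : below T i + above T i = (T.erase i).card := by
  rw [below, above, ← Finset.card_union_of_disjoint]
  · congr 1
    ext j
    simp only [Finset.mem_union, Finset.mem_filter, Finset.mem_erase, ← and_or_left]
    rw [and_comm]
    exact and_congr_left fun _ => lt_or_lt_iff_ne
  · rw [Finset.disjoint_filter]
    exact fun j _ h h' => lt_asymm h h'

include hG h0 hS hAB hQA hQB hcusp in
theorem inner_bound (i : Fin (N + 1)) (hi0 : 0 < (i : ℕ)) (hiN : (i : ℕ) < N) :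
    vsum (D i) (V i) (A i) d + vsum (D i) (V i) (B i) d + r * marked T i ≤ (r + 1) * d := by
  have hR := two_mul_tri r
  rw [marked]
  split_ifs with hT
  · have h1 := plucker3 (hG i) (h0 i) (hS i) (hAB i hi0 hiN) (hQA i hT hi0).symm
      (hQB i hT hiN).symm
    have h2 := tri_add_le_vsum_of_cusp (hG i) (hS i) (hcusp i hT)
    omega
  · have := vsum_add_vsum_le (hG i) (hS i) (hAB i hi0 hiN)
    omega

include hG h0 hS hQB hcusp in
theorem first_bound (h : 0 < N) :
    vsum (D 0) (V 0) (B 0) d + r * marked T 0 + r * (r + 1) / 2 ≤ (r + 1) * d := by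
  have hR := two_mul_tri r
  rw [marked]
  split_ifs with hT
  · have h1 := plucker2 (hG 0) (h0 0) (hS 0) (hQB 0 hT h).symm
    have h2 := tri_add_le_vsum_of_cusp (hG 0) (hS 0) (hcusp 0 hT)
    omega
  · have := plucker1 (hG 0) (h0 0) (hS 0) (B 0)
    omega

include hG h0 hS hQA hcusp in
theorem last_bound (h : 0 < N) :
    vsum (D (Fin.last N)) (V (Fin.last N)) (A (Fin.last N)) d + r * marked T (Fin.last N) +
      r * (r + 1) / 2 ≤ (r + 1) * d := by
  have hR := two_mul_tri r
  rw [marked]
  split_ifs with hT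
  · have h1 := plucker2 (hG _) (h0 _) (hS _) (hQA _ hT (by simpa using h)).symm
    have h2 := tri_add_le_vsum_of_cusp (hG _) (hS _) (hcusp _ hT)
    omega
  · have := plucker1 (hG _) (h0 _) (hS _) (A (Fin.last N))
    omega

include hG h0 hS hAB hcomp hQA hQB hcusp

theorem below_bound (l : Fin N) :
    r * below T l.succ + r * (r + 1) / 2 ≤ vsum (D l.succ) (V l.succ) (A l.succ) d := by
  obtain ⟨l, hl⟩ := l
  induction l with
  | zero =>
    have h1 := vsum_add_vsum_eq (hcomp ⟨0, hl⟩)
    rw [show (⟨0, hl⟩ : Fin N).castSucc = 0 from rfl] at h1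
    rw [below_succ, show (⟨0, hl⟩ : Fin N).castSucc = 0 from rfl, below_zero, zero_add]
    have := first_bound hG h0 hS T hQB hcusp (Nat.zero_lt_of_lt hl)
    omega
  | succ l ih =>
    have h1 := vsum_add_vsum_eq (hcomp ⟨l + 1, hl⟩)
    rw [below_succ]
    rw [show (⟨l + 1, hl⟩ : Fin N).castSucc = (⟨l, by omega⟩ : Fin N).succ from rfl] at h1 ⊢
    have h2 := ih (by omega)
    have h3 := inner_bound hG h0 hS hAB T hQA hQB hcusp (⟨l, by omega⟩ : Fin N).succ
      (by simp) (by simpa using hl)
    rw [mul_add]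
    omega

theorem above_bound (l : Fin N) :
    r * above T l.castSucc + r * (r + 1) / 2 ≤
      vsum (D l.castSucc) (V l.castSucc) (B l.castSucc) d := by
  obtain ⟨l, hl⟩ := l
  suffices ∀ e l : ℕ, (h : l < N) → N = l + 1 + e →
      r * above T (⟨l, h⟩ : Fin N).castSucc + r * (r + 1) / 2 ≤
      vsum (D (⟨l, h⟩ : Fin N).castSucc) (V (⟨l, h⟩ : Fin N).castSucc)
        (B (⟨l, h⟩ : Fin N).castSucc) d from this (N - l - 1) l hl (by omega)
  intro e
  induction e with
  | zero =>
    intro l h he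
    have h1 := vsum_add_vsum_eq (hcomp ⟨l, h⟩)
    have hlast : (⟨l, h⟩ : Fin N).succ = Fin.last N := Fin.ext (by simp; omega)
    rw [hlast] at h1
    rw [above_castSucc, hlast, above_last, zero_add]
    have := last_bound hG h0 hS T hQA hcusp (Nat.zero_lt_of_lt h)
    omega
  | succ e ih =>
    intro l h he
    have h1 := vsum_add_vsum_eq (hcomp ⟨l, h⟩)
    have h2 := ih (l + 1) (by omega) (by omega)
    rw [show (⟨l + 1, by omega⟩ : Fin N).castSucc = (⟨l, h⟩ : Fin N).succ from rfl] at h2
    have h3 := inner_bound hG h0 hS hAB T hQA hQB hcusp (⟨l, h⟩ : Fin N).succ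
      (by simp) (by simp; omega)
    rw [above_castSucc, mul_add]
    omega

theorem backbone_total : r * T.card + r * (r + 1) ≤ (r + 1) * d := by
  have hR := two_mul_tri r
  rcases Nat.eq_zero_or_pos N with rfl | hN
  · rcases T.eq_empty_or_nonempty with rfl | ⟨i, hi⟩
    · have := plucker1 (hG 0) (h0 0) (hS 0) (A 0)
      have := tri_le_vsum (hG 0) (hS 0) (A 0)
      simp only [Finset.card_empty, mul_zero]
      omega
    · have hT : T.card ≤ 1 := Finset.card_le_one.2 fun a _ b _ => Subsingleton.elim (α := Fin 1) a b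
      have h1 := plucker1 (hG i) (h0 i) (hS i) (Q i)
      have h2 := tri_add_le_vsum_of_cusp (hG i) (hS i) (hcusp i hi)
      have : r * T.card ≤ r := by simpa using Nat.mul_le_mul_left r hT
      omega
  · obtain ⟨n, rfl⟩ : ∃ n, N = n + 1 := ⟨N - 1, by omega⟩
    have h1 := below_bound hG h0 hS hAB hcomp T hQA hQB hcusp (Fin.last n)
    replace h1 : r * below T (Fin.last (n + 1)) + r * (r + 1) / 2 ≤
      vsum (D (Fin.last (n + 1))) (V (Fin.last (n + 1))) (A (Fin.last (n + 1))) d := h1
    have h2 := last_bound hG h0 hS T hQA hcusp hN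
    have h3 : below T (Fin.last (n + 1)) + marked T (Fin.last (n + 1)) = T.card := by
      have h4 := below_add_above T (Fin.last (n + 1))
      rw [above_last, add_zero] at h4
      rw [h4, marked]
      split_ifs with h
      · exact Finset.card_erase_add_one h
      · rw [Finset.erase_eq_of_notMem h, add_zero]
    rw [← h3, mul_add]
    omega

theorem node_sum_bound (i : Fin (N + 1)) (hi0 : 0 < (i : ℕ)) (hiN : (i : ℕ) < N) :
    r * (T.erase i).card + r * (r + 1) ≤
      vsum (D i) (V i) (A i) d + vsum (D i) (V i) (B i) d := by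
  have hR := two_mul_tri r
  have h1 := below_bound hG h0 hS hAB hcomp T hQA hQB hcusp ⟨i - 1, by omega⟩
  rw [show (⟨(i : ℕ) - 1, by omega⟩ : Fin N).succ = i from Fin.ext (by simp; omega)] at h1
  have h2 := above_bound hG h0 hS hAB hcomp T hQA hQB hcusp ⟨i, hiN⟩
  rw [show (⟨(i : ℕ), hiN⟩ : Fin N).castSucc = i from rfl] at h2
  rw [← below_add_above, mul_add]
  omega

theorem cusp_place_bound (i : Fin (N + 1)) (hiT : i ∈ T) (hi0 : 0 < (i : ℕ)) (hiN : (i : ℕ) < N) :
    vsum (D i) (V i) (Q i) d + r * (T.erase i).card + r * (r + 1) / 2 ≤ (r + 1) * d := by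
  have hR := two_mul_tri r
  have h1 := node_sum_bound hG h0 hS hAB hcomp T hQA hQB hcusp i hi0 hiN
  have h2 := plucker3 (hG i) (h0 i) (hS i) (hAB i hi0 hiN) (hQA i hiT hi0).symm
    (hQB i hiT hiN).symm
  omega

theorem off_node_bound (i : Fin (N + 1)) {Q' : Place k (Z i)} (hQ'A : 0 < (i : ℕ) → Q' ≠ A i)
    (hQ'B : (i : ℕ) < N → Q' ≠ B i) (hQ'Q : i ∈ T → Q' ≠ Q i) :
    vsum (D i) (V i) Q' d + r * T.card + r * (r + 1) ≤ (r + 1) * d + r * (r + 1) / 2 := by
  have hR := two_mul_tri r
  have hcard : r * T.card = r * below T i + r * above T i + r * marked T i := by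
    rw [← mul_add, ← mul_add, below_add_above, marked]
    split_ifs with h
    · rw [Finset.card_erase_add_one h]
    · rw [Finset.erase_eq_of_notMem h, add_zero]
  have hA : 0 < (i : ℕ) → r * below T i + r * (r + 1) / 2 ≤ vsum (D i) (V i) (A i) d := fun hi => by
    have h1 := below_bound hG h0 hS hAB hcomp T hQA hQB hcusp ⟨i - 1, by omega⟩
    rwa [show (⟨(i : ℕ) - 1, by omega⟩ : Fin N).succ = i from Fin.ext (by simp; omega)] at h1
  have hB : (i : ℕ) < N → r * above T i + r * (r + 1) / 2 ≤ vsum (D i) (V i) (B i) d := fun hi => by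
    have h2 := above_bound hG h0 hS hAB hcomp T hQA hQB hcusp ⟨i, hi⟩
    rwa [show (⟨(i : ℕ), hi⟩ : Fin N).castSucc = i from rfl] at h2
  have hA0 : ¬ 0 < (i : ℕ) → r * below T i = 0 := fun hi => by
    have : i = 0 := Fin.ext (by rw [Fin.val_zero]; omega)
    rw [this, below_zero, mul_zero]
  have hB0 : ¬ (i : ℕ) < N → r * above T i = 0 := fun hi => by
    have : i = Fin.last N := Fin.ext (by rw [Fin.val_last]; omega)
    rw [this, above_last, mul_zero]
  rw [hcard, marked]
  by_cases hi0 : 0 < (i : ℕ) <;> by_cases hiN : (i : ℕ) < N <;> split_ifs with hT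
  · have := plucker4 (hG i) (h0 i) (hS i) (hQ'A hi0) (hQ'B hiN) (hAB i hi0 hiN) (hQ'Q hT)
      (hQA i hT hi0).symm (hQB i hT hiN).symm
    have := tri_add_le_vsum_of_cusp (hG i) (hS i) (hcusp i hT)
    have := hA hi0; have := hB hiN
    omega
  · have := plucker3 (hG i) (h0 i) (hS i) (hQ'A hi0) (hQ'B hiN) (hAB i hi0 hiN)
    have := hA hi0; have := hB hiN
    omega
  · have := plucker3 (hG i) (h0 i) (hS i) (hQ'A hi0) (hQ'Q hT) (hQA i hT hi0).symm
    have := tri_add_le_vsum_of_cusp (hG i) (hS i) (hcusp i hT)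
    have := hA hi0; have := hB0 hiN
    omega
  · have := plucker2 (hG i) (h0 i) (hS i) (hQ'A hi0)
    have := hA hi0; have := hB0 hiN
    omega
  · have := plucker3 (hG i) (h0 i) (hS i) (hQ'B hiN) (hQ'Q hT) (hQB i hT hiN).symm
    have := tri_add_le_vsum_of_cusp (hG i) (hS i) (hcusp i hT)
    have := hA0 hi0; have := hB hiN
    omega
  · have := plucker2 (hG i) (h0 i) (hS i) (hQ'B hiN)
    have := hA0 hi0; have := hB hiN
    omega
  · have := plucker2 (hG i) (h0 i) (hS i) (hQ'Q hT)
    have := tri_add_le_vsum_of_cusp (hG i) (hS i) (hcusp i hT)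
    have := hA0 hi0; have := hB0 hiN
    omega
  · have := plucker1 (hG i) (h0 i) (hS i) Q'
    have := hA0 hi0; have := hB0 hiN
    omega

end Groth.Funfld2
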