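import Mathlib.LinearAlgebra.FiniteDimensional.Lemmas
import Mathlib.LinearAlgebra.Dimension.Constructions

/-! Bases adapted to a finite flag of subspaces. -/

namespace Groth.Funfld2

variable {k W : Type*} [Field k] [AddCommGroup W] [Module k W]

/-- A finite descending flag has an adapted basis `b i ∈ U (m i) \ U (m i + 1)`. -/
theorem exists_adapted_family (N : ℕ) (U : ℕ → Submodule k W) (hU : Antitone U)
    [FiniteDimensional k (U 0)] (hN : U N = ⊥) :
    ∃ (ι : Type) (_ : Fintype ι) (b : ι → W) (m : ι → ℕ), LinearIndependent k b ∧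
      Submodule.span k (Set.range b) = U 0 ∧ (∀ i, b i ∈ U (m i)) ∧ (∀ i, b i ∉ U (m i + 1)) ∧
      ((∀ n, Module.finrank k (U n) ≤ Module.finrank k (U (n + 1)) + 1) → Function.Injective m) ∧
      ∑ i, m i = ∑ n ∈ Finset.range N, Module.finrank k (U (n + 1)) := by
  induction N generalizing U with
  | zero =>
    refine ⟨Fin 0, inferInstance, Fin.elim0, Fin.elim0, linearIndependent_empty_type, ?_,
      fun i => i.elim0, fun i => i.elim0, fun _ => fun i => i.elim0, by simp⟩
    rw [hN]; simp
  | succ N ih =>
    have h1 : FiniteDimensional k (U 1) := Submodule.finiteDimensional_of_le (hU (Nat.zero_le 1))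
    obtain ⟨ι, fι, b, m, hb, hspan, hmem, hnot, hinj, hsum⟩ :=
      @ih (fun n => U (n + 1)) (fun _ _ h => hU (Nat.succ_le_succ h)) h1 hN
    classical
    obtain ⟨C, hC⟩ := Submodule.exists_isCompl ((U 1).comap (U 0).subtype)
    let e := Module.finBasis k C
    let c : Fin (Module.finrank k C) → W := fun i => ((e i : U 0) : W)
    let f : C →ₗ[k] W := (U 0).subtype ∘ₗ C.subtype
    have hf : Function.Injective f := Subtype.val_injective.comp Subtype.val_injective
    have hc : LinearIndependent k c := e.linearIndependent.map' f (LinearMap.ker_eq_bot.2 hf)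
    have hcspan : Submodule.span k (Set.range c) = C.map (U 0).subtype := by
      rw [show c = f ∘ e from rfl, Set.range_comp, Submodule.span_image, e.span_eq,
        Submodule.map_comp, Submodule.map_subtype_top]
    have hU1 : ((U 1).comap (U 0).subtype).map (U 0).subtype = U 1 :=
      Submodule.map_comap_subtype (U 0) (U 1) |>.trans (inf_eq_right.2 (hU (Nat.zero_le 1)))
    have hdisj : Disjoint (U 1) (C.map (U 0).subtype) := by
      rw [← hU1]
      exact Submodule.disjoint_map Subtype.val_injective hC.disjoint
    have hsup : U 1 ⊔ C.map (U 0).subtype = U 0 := by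
      conv_lhs => rw [← hU1]
      rw [← Submodule.map_sup, hC.codisjoint.eq_top, Submodule.map_subtype_top]
    refine ⟨ι ⊕ Fin (Module.finrank k C), inferInstance, Sum.elim b c,
      Sum.elim (fun i => m i + 1) 0, hb.sum_type hc ?_, ?_, ?_, ?_, ?_, ?_⟩
    · rw [hspan, hcspan]; exact hdisj
    · rw [Set.Sum.elim_range, Submodule.span_union, hspan, hcspan, hsup]
    · rintro (i | i)
      · exact hmem i
      · exact (e i : U 0).2
    · rintro (i | i)
      · exact hnot i
      · intro h
        refine hc.ne_zero i ((Submodule.disjoint_def.1 hdisj) _ h ?_)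
        exact Submodule.mem_map_of_mem (e i).2
    · intro hstep
      have hle : Module.finrank k C ≤ 1 := by
        have h2 := Submodule.finrank_add_eq_of_isCompl hC
        have h3 : Module.finrank k ((U 1).comap (U 0).subtype) = Module.finrank k (U 1) :=
          (Submodule.comapSubtypeEquivOfLe (hU (Nat.zero_le 1))).finrank_eq
        have h4 : Module.finrank k (U 0) ≤ Module.finrank k (U 1) + 1 := hstep 0
        omega
      rintro (i | i) (j | j) h
      · exact congrArg Sum.inl (hinj (fun n => hstep (n + 1)) (by simpa using h))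
      · simp at h
      · simp at h
      · exact congrArg Sum.inr (Fin.ext (by omega))
    · rw [Fintype.sum_sum_type]
      simp only [Sum.elim_inl, Sum.elim_inr, Pi.zero_apply, Finset.sum_const_zero, add_zero]
      rw [Finset.sum_add_distrib, hsum, Finset.sum_range_succ']
      simp only [Finset.sum_const, smul_eq_mul, mul_one, Finset.card_univ]
      rw [← finrank_span_eq_card hb, hspan]

theorem exists_adapted_fin {M : ℕ} (N : ℕ) (U : ℕ → Submodule k W) (hU : Antitone U)
    [FiniteDimensional k (U 0)] (hN : U N = ⊥) (hM : Module.finrank k (U 0) = M) :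
    ∃ (b : Fin M → W) (m : Fin M → ℕ), LinearIndependent k b ∧
      Submodule.span k (Set.range b) = U 0 ∧ (∀ i, b i ∈ U (m i)) ∧ (∀ i, b i ∉ U (m i + 1)) ∧
      ((∀ n, Module.finrank k (U n) ≤ Module.finrank k (U (n + 1)) + 1) → Function.Injective m) ∧
      ∑ i, m i = ∑ n ∈ Finset.range N, Module.finrank k (U (n + 1)) := by
  obtain ⟨ι, fι, b, m, hb, hspan, hmem, hnot, hinj, hsum⟩ := exists_adapted_family N U hU hN
  have hcard : Fintype.card ι = M := by rw [← hM, ← hspan, finrank_span_eq_card hb]
  let e : Fin M ≃ ι := ((Fintype.equivFin ι).trans (finCongr hcard)).symm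
  refine ⟨b ∘ e, m ∘ e, hb.comp e e.injective, ?_, fun i => hmem _, fun i => hnot _,
    fun h => (hinj h).comp e.injective, ?_⟩
  · rw [e.surjective.range_comp, hspan]
  · rw [← hsum]; exact Equiv.sum_comp e m

end Groth.Funfld2
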