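import Groth.Agent.Funfld2.LLS.Backbone

/-! Members of a linear series with prescribed support; positive genus. -/

open FunFld
open scoped WithZero

namespace Groth.Funfld2

variable {k K : Type*} [Field k] [Field K] [Algebra k K] (hG : Good k K)
include hG

theorem mem_L_zero_of_eq {x : K} (hx : x ∈ L (0 : Divisor k K)) (P : Place k K) :
    ∃ c : k, x = algebraMap k K c :=
  (mem_range_algebraMap_of_mem_L_zero hG P hx).imp fun _ h => h.symm

/-- Two independent sections of a degree one divisor give a coordinate. -/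
theorem exists_coord_of_two_le_ell {D : Divisor k K} (hdeg : D.deg = 1) (h2 : 2 ≤ ell D)
    (P : Place k K) : ∃ O : Place k K, Nonempty (Coord O) := by
  classical
  have := finiteDimensional_L_of_place hG P D
  obtain ⟨f, hf, hf0⟩ : ∃ f ∈ L D, f ≠ 0 := Submodule.exists_mem_ne_zero_of_ne_bot fun e => by
    rw [ell, e, finrank_bot] at h2; omega
  obtain ⟨g, hg, hg'⟩ : ∃ g ∈ L D, g ∉ Submodule.span k {f} := SetLike.not_le_iff_exists.1 fun hle => by
    have : ell D ≤ 1 := (Submodule.finrank_mono hle).trans ((finrank_span_le_card _).trans (by simp))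
    omega
  set E := FunFld.div k f + D with hE
  have hEpos : 0 ≤ E := div_add_nonneg hG hf hf0
  have hEdeg : E.deg = 1 := by rw [hE, deg_add, hG.deg_div f hf0, hdeg]; norm_num
  obtain ⟨O, hO⟩ : ∃ O, 1 ≤ E O := by
    by_contra h
    push Not at h
    have : E = 0 := Finsupp.ext fun R => by
      have := hEpos R; have := h R
      simp only [Finsupp.coe_zero, Pi.zero_apply] at *
      omega
    rw [this, deg_zero'] at hEdeg
    norm_num at hEdeg
  have hEeq : E - Finsupp.single O 1 = 0 := by
    refine eq_zero_of_nonneg_of_deg hG (fun R => ?_) (by rw [deg_sub, hEdeg, deg_single, hG.deg_one]; norm_num)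
    rw [Finsupp.sub_apply, Finsupp.single_apply]
    have := hEpos R
    simp only [Finsupp.coe_zero, Pi.zero_apply] at this ⊢
    split_ifs with h
    · subst h; omega
    · omega
  rw [sub_eq_zero] at hEeq
  have hx0 : g / f ≠ 0 := div_ne_zero (fun e => hg' (e ▸ zero_mem _)) hf0
  have hmem : g / f ∈ L (Finsupp.single O 1) := by
    intro R
    have h1 := DFunLike.congr_fun hEeq R
    rw [hE, Finsupp.add_apply, div_apply hG] at h1
    rw [map_div₀, val_eq_exp_ord R hf0, div_le_iff₀ WithZero.exp_pos, ← h1, ← WithZero.exp_add]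
    rw [show R.ord f + D R + -R.ord f = D R by omega]
    exact hg R
  refine ⟨O, ⟨⟨g / f, ?_, fun R hR => ?_⟩⟩⟩
  · have h1 := (mem_L_iff_ord hx0).1 hmem O
    rw [Finsupp.single_eq_same] at h1
    by_contra hne
    obtain ⟨c, hc⟩ := mem_L_zero_of_eq hG (x := g / f) ((mem_L_iff_ord hx0).2 fun R => by
      simp only [Finsupp.coe_zero, Pi.zero_apply, add_zero]
      rcases eq_or_ne R O with rfl | hR
      · omega
      · have := (mem_L_iff_ord hx0).1 hmem R
        rw [Finsupp.single_apply, if_neg hR.symm] at this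
        omega) P
    exact hg' (Submodule.mem_span_singleton.2 ⟨c, by
      rw [Algebra.smul_def, ← hc, div_mul_cancel₀ g hf0]⟩)
  · simpa [Finsupp.single_apply, hR.symm] using hmem R

theorem genus_eq_zero_of_coord {O : Place k K} (c : Coord O) : genus k K = 0 := by
  classical
  -- every divisor is linearly equivalent to a multiple of `O`
  have hprin : ∀ E : Divisor k K, ∃ h : K, h ≠ 0 ∧
      FunFld.div k h + Finsupp.single O E.deg = E := by
    intro E
    induction E using Finsupp.induction with
    | zero =>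
      refine ⟨1, one_ne_zero, ?_⟩
      rw [deg_zero', Finsupp.single_zero, add_zero]
      ext R
      rw [div_apply hG]
      simp [Place.ord]
    | @single_add P n E _ _ ih =>
      obtain ⟨h, hh0, hh⟩ := ih
      obtain ⟨y, hy0, hy⟩ : ∃ y : K, y ≠ 0 ∧
          FunFld.div k y = Finsupp.single P (1 : ℤ) - Finsupp.single O 1 := by
        rcases eq_or_ne P O with rfl | hP
        · refine ⟨1, one_ne_zero, ?_⟩
          rw [sub_self]
          ext R
          rw [div_apply hG]
          simp [Place.ord]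
        obtain ⟨a, ha, hu⟩ := c.exists_value hG hP
        refine ⟨c.x - algebraMap k K a, fun e => ?_, ?_⟩
        · rw [e, map_zero] at ha; exact WithZero.exp_ne_zero ha.symm
        have hy0 : c.x - algebraMap k K a ≠ 0 := fun e => by
          rw [e, map_zero] at ha; exact WithZero.exp_ne_zero ha.symm
        ext R
        rw [div_apply hG, Finsupp.sub_apply, Finsupp.single_apply, Finsupp.single_apply]
        rcases eq_or_ne R O with rfl | hRO
        · have hlt : R.1 (algebraMap k K a) < R.1 c.x := by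
            rw [c.val_x]
            refine lt_of_le_of_lt (R.2.1 a) ?_
            rw [← WithZero.exp_zero, WithZero.exp_lt_exp]; norm_num
          have : R.1 (c.x - algebraMap k K a) = WithZero.exp 1 := by
            rw [Valuation.map_sub_eq_of_lt_left R.1 hlt, c.val_x]
          rw [if_neg hP, if_pos rfl, Place.ord, this, WithZero.log_exp]
          norm_num
        rw [if_neg hRO.symm]
        rcases eq_or_ne R P with rfl | hRP
        · rw [if_pos rfl, Place.ord, ha, WithZero.log_exp]; norm_num
        rw [if_neg hRP.symm, sub_zero]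
        have hle : R.1 (c.x - algebraMap k K a) ≤ 1 :=
          (R.1.map_sub _ _).trans (max_le (c.le_one R hRO) (R.2.1 a))
        have h1 := (val_le_one_iff_ord R hy0).1 hle
        by_contra hne
        exact hRP (hu R hRO ((val_lt_one_iff_ord R hy0).2 (by omega)))
      refine ⟨y ^ n * h, mul_ne_zero (zpow_ne_zero _ hy0) hh0, ?_⟩
      ext R
      have e1 := DFunLike.congr_fun hh R
      have e2 := DFunLike.congr_fun hy R
      rw [Finsupp.add_apply, div_apply hG] at e1
      rw [div_apply hG, Finsupp.sub_apply] at e2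
      rw [Finsupp.add_apply, Finsupp.add_apply, div_apply hG, deg_add, deg_single, hG.deg_one]
      have hne : ∀ z : K, z ≠ 0 → R.1 z ≠ 0 := fun z hz => (Valuation.ne_zero_iff R.1).2 hz
      have hord : R.ord (y ^ n * h) = n * R.ord y + R.ord h := by
        simp only [Place.ord, map_mul, map_zpow₀]
        rw [WithZero.log_mul (zpow_ne_zero _ (hne y hy0)) (hne h hh0), WithZero.log_zpow, smul_eq_mul]
        ring
      rw [hord, e2, ← e1]
      simp only [Finsupp.single_apply]
      split_ifs <;> ring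
  have hell : ∀ E : Divisor k K, E.deg + 1 ≤ (ell E : ℤ) := by
    intro E
    rcases lt_or_ge E.deg 0 with hE | hE
    · omega
    obtain ⟨h, hh0, hh⟩ := hprin E
    obtain ⟨n, hn⟩ : ∃ n : ℕ, (n : ℤ) = E.deg := ⟨_, Int.toNat_of_nonneg hE⟩
    rw [← hn] at hh
    have := finiteDimensional_L_of_place hG O E
    have hle : (L (Finsupp.single O (n : ℤ))).map (LinearMap.mulLeft k h⁻¹) ≤ L E := by
      rintro _ ⟨z, hz, rfl⟩ R
      have e1 := DFunLike.congr_fun hh R
      rw [Finsupp.add_apply, div_apply hG] at e1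
      rw [LinearMap.mulLeft_apply, map_mul, map_inv₀, val_eq_exp_ord R hh0, ← e1,
        ← WithZero.exp_neg, neg_neg, WithZero.exp_add]
      exact mul_le_mul_right (hz R) _
    have h1 := Submodule.finrank_mono hle
    rw [← (Submodule.equivMapOfInjective (LinearMap.mulLeft k h⁻¹)
      (fun a b e => mul_left_cancel₀ (inv_ne_zero hh0) e) _).finrank_eq,
      ← c.map_degreeLT hG n, ← (Submodule.equivMapOfInjective _ (by exact c.aeval_injective) _).finrank_eq,
      (Polynomial.degreeLTEquiv k (n + 1)).finrank_eq, Module.finrank_fin_fun] at h1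
    rw [ell, ← hn]
    exact_mod_cast h1
  unfold genus
  refine Nat.eq_zero_of_le_zero (csSup_le ⟨_, 0, rfl⟩ ?_)
  rintro _ ⟨E, rfl⟩
  have := hell E
  dsimp only
  omega

theorem vdim_pred_le_one {D : Divisor k K} {V : Submodule k K} {d r : ℕ} (hS : IsSeries D V d r)
    (P : Place k K) (hg : 0 < genus k K) : vdim D V P ((d : ℤ) - 1) ≤ 1 := by
  by_contra h
  have hdeg : (D - Finsupp.single P ((d : ℤ) - 1)).deg = 1 := by
    rw [deg_sub, deg_single, hG.deg_one, hS.deg]; ring
  have := finiteDimensional_L_of_place hG P (D - Finsupp.single P ((d : ℤ) - 1))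
  have h2 : 2 ≤ ell (D - Finsupp.single P ((d : ℤ) - 1)) :=
    le_trans (by rw [vdim] at h; omega) (Submodule.finrank_mono (inf_le_right (a := V)))
  obtain ⟨O, ⟨c⟩⟩ := exists_coord_of_two_le_ell hG hdeg h2 P
  rw [genus_eq_zero_of_coord hG c] at hg
  omega

/-- At most one member supported on `{P, P'}` when there is a cusp elsewhere. -/
theorem eq_smul_of_supported [CharZero k] {D : Divisor k K} {V : Submodule k K} {d r : ℕ}
    (hS : IsSeries D V d r) (h0 : RiemannZero k K) {Q P P' : Place k K}
    (hcusp : r ≤ vdim D V Q 2) (hP : P ≠ Q) (hP' : P' ≠ Q) {f g : K} (hf : f ∈ V) (hg : g ∈ V)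
    (hf0 : f ≠ 0) (hg0 : g ≠ 0)
    (hfs : ∀ R : Place k K, R ≠ P → R ≠ P' → (FunFld.div k f + D) R = 0)
    (hgs : ∀ R : Place k K, R ≠ P → R ≠ P' → (FunFld.div k g + D) R = 0) :
    ∃ c : k, g = c • f := by
  classical
  have hnot : ∀ z : K, z ≠ 0 → (FunFld.div k z + D) Q = 0 → z ∉ L (D - Finsupp.single Q 1) := by
    intro z hz hzQ h
    have := (mem_L_iff_ord hz).1 h Q
    rw [Finsupp.sub_apply, Finsupp.single_eq_same] at this
    rw [Finsupp.add_apply, div_apply hG] at hzQ
    omega
  have hfQ := hnot f hf0 (hfs Q hP.symm hP'.symm)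
  have := hS.finite
  have hV1 : V ⊓ L (D - Finsupp.single Q 1) ≤ L (D - Finsupp.single Q 2) := by
    have hf1 : FiniteDimensional k ↥(V ⊓ L (D - Finsupp.single Q 1)) :=
      Submodule.finiteDimensional_of_le (inf_le_left : _ ≤ V)
    have h1 : V ⊓ L (D - Finsupp.single Q 2) ≤ V ⊓ L (D - Finsupp.single Q 1) :=
      inf_le_inf_left _ (L_mono (sub_le_sub_left (Finsupp.single_le_single.2 one_le_two) D))
    have h2 : Module.finrank k ↥(V ⊓ L (D - Finsupp.single Q 1)) < r + 1 := by
      rw [← hS.rank]
      exact Submodule.finrank_lt_finrank_of_lt (lt_of_le_of_ne inf_le_left fun e =>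
        hfQ (Submodule.mem_inf.1 (e.symm ▸ hf)).2)
    rw [← Submodule.eq_of_le_of_finrank_le h1 (le_trans (Nat.lt_succ_iff.1 h2) hcusp)]
    exact inf_le_right
  set u := g / f with hu
  have hu0 : u ≠ 0 := div_ne_zero hg0 hf0
  have hordu : ∀ R : Place k K, R ≠ P → R ≠ P' → R.ord u = 0 := by
    intro R h1 h2
    have e1 := hfs R h1 h2
    have e2 := hgs R h1 h2
    rw [Finsupp.add_apply, div_apply hG] at e1 e2
    rw [hu, Place.ord, map_div₀, WithZero.log_div ((Valuation.ne_zero_iff _).2 hg0)
      ((Valuation.ne_zero_iff _).2 hf0)]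
    simp only [Place.ord] at e1 e2
    omega
  rcases eq_or_ne P P' with rfl | hPP
  · obtain ⟨c, hc⟩ := mem_L_zero_of_eq hG (x := u) ((mem_L_iff_ord hu0).2 fun R => by
      simp only [Finsupp.coe_zero, Pi.zero_apply, add_zero]
      rcases eq_or_ne R P with rfl | h
      · -- degree zero forces order zero at the last place
        have hsum := hG.deg_div u hu0
        have hdiv : FunFld.div k u = Finsupp.single R (R.ord u) := by
          ext S
          rw [div_apply hG, Finsupp.single_apply]
          split_ifs with hS'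
          · rw [hS']
          · exact hordu S (Ne.symm hS') (Ne.symm hS')
        rw [hdiv, deg_single, hG.deg_one] at hsum
        omega
      · rw [hordu R h h]) P
    exact ⟨c, by rw [Algebra.smul_def, ← hc, hu, div_mul_cancel₀ g hf0]⟩
  -- value of `u` at `Q`
  have huQ : Q.1 u = 1 := by
    rw [val_eq_exp_ord Q hu0, hordu Q hP.symm hP'.symm]; simp
  obtain ⟨lam, hlam⟩ := exists_const_residue (hG.deg_one Q) huQ.le
  have hfv : Q.1 f = WithZero.exp (D Q) := by
    have e1 := hfs Q hP.symm hP'.symm
    rw [Finsupp.add_apply, div_apply hG] at e1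
    rw [val_eq_exp_ord Q hf0, WithZero.exp_inj]
    omega
  have hcombL : g - lam • f ∈ L (D - Finsupp.single Q 1) := by
    rw [mem_L_sub_single_iff zero_le_one]
    refine ⟨sub_mem (hS.le hg) (Submodule.smul_mem _ _ (hS.le hf)), ?_⟩
    have heq : g - lam • f = f * (u - algebraMap k K lam) := by
      rw [hu, Algebra.smul_def]; field_simp
    by_cases h0' : g - lam • f = 0
    · simp [h0']
    have hlt : Q.1 (g - lam • f) < WithZero.exp (D Q) := by
      rw [heq, map_mul, hfv]
      exact mul_lt_of_lt_one_right WithZero.exp_pos hlam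
    rw [val_le_exp_iff Q h0']
    rw [val_eq_exp_ord Q h0', WithZero.exp_lt_exp] at hlt
    omega
  have h2L := hV1 (Submodule.mem_inf.2 ⟨sub_mem hg (Submodule.smul_mem _ _ hf), hcombL⟩)
  -- so `u - lam` vanishes to order two at `Q`
  have hu2 : Q.1 (u - algebraMap k K lam) ≤ WithZero.exp (-2) := by
    have := ((mem_L_sub_single_iff (by norm_num : (0:ℤ) ≤ 2)).1 h2L).2
    rw [show g - lam • f = f * (u - algebraMap k K lam) by
      rw [hu, Algebra.smul_def]; field_simp, map_mul, hfv, WithZero.exp_sub,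
      div_eq_mul_inv, ← WithZero.exp_neg] at this
    exact le_of_mul_le_mul_left this WithZero.exp_pos
  -- a coordinate with value `∞` at `Q`
  obtain ⟨c⟩ := exists_coord hG h0 Q
  obtain ⟨a, ha, hau⟩ := c.exists_value hG hP
  obtain ⟨b, hb, hbu⟩ := c.exists_value hG hP'
  have hab : a ≠ b := by
    intro e
    refine hPP (hbu P hP ?_)
    rw [← e, ha, ← WithZero.exp_zero, WithZero.exp_lt_exp]; norm_num
  have hne : ∀ t : k, c.x - algebraMap k K t ≠ 0 := fun t e => by
    refine Polynomial.X_sub_C_ne_zero t (c.aeval_injective ?_)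
    simpa using e
  have hQx : ∀ t : k, Q.1 (c.x - algebraMap k K t) = WithZero.exp 1 := by
    intro t
    have := c.val_aeval (Polynomial.X_sub_C_ne_zero t)
    simpa using this
  have hval : ∀ (S : Place k K) (t : k), S ≠ Q → S.1 (c.x - algebraMap k K t) ≤ 1 := fun S t hS' =>
    (S.1.map_sub _ _).trans (max_le (c.le_one S hS') (S.2.1 t))
  set y := (c.x - algebraMap k K a) / (c.x - algebraMap k K b) with hy
  have hy0 : y ≠ 0 := div_ne_zero (hne a) (hne b)
  -- `u = C * y ^ n`
  set n := P.ord u with hn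
  set w := u / y ^ n with hw
  have hw0 : w ≠ 0 := div_ne_zero hu0 (zpow_ne_zero _ hy0)
  have hord : ∀ S : Place k K, S ≠ P' → S.ord w = 0 := by
    intro S hSP'
    have hs : ∀ t : k, S.1 (c.x - algebraMap k K t) ≠ 0 :=
      fun t => (Valuation.ne_zero_iff _).2 (hne t)
    have hyo : S.ord y = if S = P then 1 else 0 := by
      rw [hy, Place.ord, map_div₀, WithZero.log_div (hs a) (hs b)]
      rcases eq_or_ne S Q with rfl | hSQ
      · rw [hQx, hQx, sub_self, if_neg hP.symm, neg_zero]
      have hb1 : S.1 (c.x - algebraMap k K b) = 1 := by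
        refine le_antisymm (hval S b hSQ) (not_lt.1 fun hlt => ?_)
        exact hSP' (hbu S hSQ hlt)
      rw [hb1, WithZero.log_one, sub_zero]
      split_ifs with hSP
      · subst hSP; rw [ha, WithZero.log_exp]; norm_num
      · have ha1 : S.1 (c.x - algebraMap k K a) = 1 := by
          refine le_antisymm (hval S a hSQ) (not_lt.1 fun hlt => ?_)
          exact hSP (hau S hSQ hlt)
        rw [ha1, WithZero.log_one, neg_zero]
    have hz : S.ord w = S.ord u - n * S.ord y := by
      simp only [hw, Place.ord, map_div₀, map_zpow₀]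
      rw [WithZero.log_div ((Valuation.ne_zero_iff _).2 hu0)
        (zpow_ne_zero _ ((Valuation.ne_zero_iff _).2 hy0)), WithZero.log_zpow, smul_eq_mul]
      ring
    rw [hz, hyo]
    split_ifs with hSP
    · subst hSP; rw [hn]; ring
    · rw [hordu S hSP hSP']; ring
  obtain ⟨C0, hC0⟩ := mem_L_zero_of_eq hG (x := w) ((mem_L_iff_ord hw0).2 fun S => by
    simp only [Finsupp.coe_zero, Pi.zero_apply, add_zero]
    rcases eq_or_ne S P' with rfl | h
    · have hsum := hG.deg_div w hw0
      have hdiv : FunFld.div k w = Finsupp.single S (S.ord w) := by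
        ext T
        rw [div_apply hG, Finsupp.single_apply]
        split_ifs with hT
        · rw [hT]
        · exact hord T (Ne.symm hT)
      rw [hdiv, deg_single, hG.deg_one] at hsum
      omega
    · rw [hord S h]) P
  have huy : u = algebraMap k K C0 * y ^ n := by
    rw [← hC0, hw, div_mul_cancel₀ u (zpow_ne_zero _ hy0)]
  -- `y - 1` has a simple zero at `Q`
  have hy1 : Q.1 (y - 1) = WithZero.exp (-1) := by
    have e : y - 1 = algebraMap k K (b - a) / (c.x - algebraMap k K b) := by
      rw [hy, map_sub, div_sub_one (hne b)]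
      ring
    rw [e, map_div₀, val_algebraMap Q (sub_ne_zero.2 hab.symm), hQx, one_div, WithZero.exp_neg]
  have hn0 : n = 0 := by
    by_contra hn0
    -- reduce to a positive exponent
    have hyv : Q.1 y = 1 := by
      rw [hy, map_div₀, hQx, hQx, div_self WithZero.exp_ne_zero]
    have hpow : ∀ m : ℕ, 0 < m → Q.1 (y ^ m - 1) = WithZero.exp (-1) := by
      intro m hm
      rw [← geom_sum_mul, map_mul, hy1]
      have hone : (∑ i ∈ Finset.range m, y ^ i) =
          algebraMap k K (m : k) + ∑ i ∈ Finset.range m, (y ^ i - 1) := by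
        rw [Finset.sum_sub_distrib, Finset.sum_const, Finset.card_range, nsmul_one, map_natCast]
        ring
      have hm0 : (m : k) ≠ 0 := Nat.cast_ne_zero.2 hm.ne'
      rw [hone, Valuation.map_add_eq_of_lt_left Q.1, val_algebraMap Q hm0, one_mul]
      rw [val_algebraMap Q hm0]
      refine Q.1.map_sum_lt one_ne_zero fun i _ => ?_
      rw [← geom_sum_mul, map_mul, hy1]
      refine lt_of_le_of_lt (mul_le_mul_left ?_ _)
        (show 1 * WithZero.exp (-1 : ℤ) < 1 by
          rw [one_mul, ← WithZero.exp_zero, WithZero.exp_lt_exp]; norm_num)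
      exact Q.1.map_sum_le fun j _ => by rw [map_pow, hyv, one_pow]
    have hz : ∀ z : ℤ, z ≠ 0 → Q.1 (y ^ z - 1) = WithZero.exp (-1) := by
      intro z hz
      obtain ⟨m, rfl | rfl⟩ := Int.eq_nat_or_neg z
      · rw [zpow_natCast]; exact hpow m (by omega)
      · have hm : 0 < m := by omega
        rw [zpow_neg, zpow_natCast, show (y ^ m)⁻¹ - 1 = -((y ^ m)⁻¹ * (y ^ m - 1)) by
          field_simp; ring, Valuation.map_neg, map_mul, map_inv₀, map_pow, hyv, one_pow, inv_one,
          one_mul, hpow m hm]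
    have hC0ne : C0 ≠ 0 := by
      rintro rfl
      rw [map_zero, zero_mul] at huy
      exact hu0 huy
    have hcase : u - algebraMap k K lam =
        algebraMap k K C0 * (y ^ n - 1) + algebraMap k K (C0 - lam) := by
      rw [huy, map_sub]; ring
    rw [hcase] at hu2
    by_cases hCl : C0 - lam = 0
    · rw [hCl, map_zero, add_zero, map_mul, val_algebraMap Q hC0ne, one_mul, hz n hn0,
        WithZero.exp_le_exp] at hu2
      norm_num at hu2
    · rw [Valuation.map_add_eq_of_lt_right Q.1, val_algebraMap Q hCl, ← WithZero.exp_zero,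
        WithZero.exp_le_exp] at hu2
      · norm_num at hu2
      · rw [map_mul, val_algebraMap Q hC0ne, one_mul, hz n hn0, val_algebraMap Q hCl,
          ← WithZero.exp_zero, WithZero.exp_lt_exp]
        norm_num
  rw [hn0, zpow_zero, mul_one] at huy
  exact ⟨C0, by rw [Algebra.smul_def, ← huy, hu, div_mul_cancel₀ g hf0]⟩

/-- Two vanishing indices with members `n P + (d - n) Q`, hence a principal multiple of `Q - P`. -/
theorem exists_multiple_principal {D : Divisor k K} {V : Submodule k K} {d r : ℕ}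
    (hS : IsSeries D V d r) {P Q : Place k K} (hPQ : P ≠ Q)
    (hw : (r + 1) * d + 1 ≤ vsum D V P d + vsum D V Q d + r) :
    ∃ m : ℕ, 1 ≤ m ∧ m ≤ d ∧ ∃ h : K, h ≠ 0 ∧
      FunFld.div k h = Finsupp.single Q (m : ℤ) - Finsupp.single P (m : ℤ) := by
  classical
  have := hS.finite
  -- members at index `n`
  let good : ℕ → Prop := fun n => (V ⊓ L (D - Finsupp.single P (n : ℤ))) ⊓
    (V ⊓ L (D - Finsupp.single Q ((d : ℤ) - n))) ≠ ⊥
  have hgood : ∀ n : ℕ, n ≤ d → good n → ∃ f : K, f ≠ 0 ∧ FunFld.div k f + D =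
      Finsupp.single P (n : ℤ) + Finsupp.single Q ((d : ℤ) - n) := by
    intro n hn h
    obtain ⟨f, ⟨⟨hfV, hfP⟩, -, hfQ⟩, hf0⟩ := Submodule.exists_mem_ne_zero_of_ne_bot h
    have hmem : f ∈ L (D - Finsupp.single P (n : ℤ) - Finsupp.single Q ((d : ℤ) - n)) := by
      rw [mem_L_sub_single_iff (by omega)]
      refine ⟨hfP, ?_⟩
      have := ((mem_L_sub_single_iff (by omega)).1 hfQ).2
      simpa [Finsupp.single_apply, hPQ] using this
    have := eq_zero_of_nonneg_of_deg hG (div_add_nonneg hG hmem hf0)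
      (by rw [deg_add, deg_sub, deg_sub, hG.deg_div f hf0, deg_single, deg_single, hS.deg,
        hG.deg_one, hG.deg_one]; push_cast; omega)
    refine ⟨f, hf0, ?_⟩
    rw [← sub_eq_zero, ← this]
    abel
  suffices htwo : ∃ n₁ n₂, n₁ < n₂ ∧ n₂ ≤ d ∧ good n₁ ∧ good n₂ by
    obtain ⟨n₁, n₂, hlt, hle, h1, h2⟩ := htwo
    obtain ⟨f₁, hf₁, e₁⟩ := hgood n₁ (by omega) h1
    obtain ⟨f₂, hf₂, e₂⟩ := hgood n₂ hle h2
    refine ⟨n₂ - n₁, by omega, by omega, f₁ / f₂, div_ne_zero hf₁ hf₂, ?_⟩
    ext R
    have a1 := DFunLike.congr_fun e₁ R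
    have a2 := DFunLike.congr_fun e₂ R
    simp only [Finsupp.add_apply, div_apply hG] at a1 a2
    rw [div_apply hG, Place.ord, map_div₀, WithZero.log_div ((Valuation.ne_zero_iff _).2 hf₁)
      ((Valuation.ne_zero_iff _).2 hf₂), Finsupp.sub_apply]
    simp only [Place.ord] at a1 a2
    simp only [Finsupp.single_apply] at *
    split_ifs at a1 a2 ⊢ <;> omega
  -- counting
  have key : ∀ n ≤ d, vdim D V P n + vdim D V Q ((d : ℤ) - n) ≤
      r + 1 + if good n then vdim D V P n + vdim D V Q ((d : ℤ) - n) - (r + 1) else 0 := by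
    intro n _
    by_cases h : good n
    · rw [if_pos h]; omega
    · rw [if_neg h, add_zero]
      have hP' : FiniteDimensional k ↥(V ⊓ L (D - Finsupp.single P (n : ℤ))) :=
        Submodule.finiteDimensional_of_le (inf_le_left : _ ≤ V)
      have hQ' : FiniteDimensional k ↥(V ⊓ L (D - Finsupp.single Q ((d : ℤ) - n))) :=
        Submodule.finiteDimensional_of_le (inf_le_left : _ ≤ V)
      have := Submodule.finrank_sup_add_finrank_inf_eq (V ⊓ L (D - Finsupp.single P (n : ℤ)))
        (V ⊓ L (D - Finsupp.single Q ((d : ℤ) - n)))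
      rw [not_not.1 h, finrank_bot, add_zero] at this
      rw [vdim, vdim, ← this, ← hS.rank]
      exact Submodule.finrank_mono (sup_le inf_le_left inf_le_left)
  have hone : ∀ n ≤ d, vdim D V P n + vdim D V Q ((d : ℤ) - n) ≤ r + 1 + 1 := by
    intro n hn
    have h1 := vdim_le_succ (P := P) hG hS n
    have h2 := vdim_add_vdim_le hG hS hPQ (n := (n : ℤ) + 1) (m := (d : ℤ) - n) (by omega) (by omega)
      (by omega)
    omega
  by_contra hno
  push Not at hno
  set bad := (Finset.range (d + 1)).filter good with hbad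
  have hcard : bad.card ≤ 1 := Finset.card_le_one.2 fun a ha b hb => by
    rw [hbad, Finset.mem_filter, Finset.mem_range] at ha hb
    rcases lt_trichotomy a b with h | h | h
    · exact absurd hb.2 (hno a b h (by omega) ha.2)
    · exact h
    · exact absurd ha.2 (hno b a h (by omega) hb.2)
  have hsum : ∑ n ∈ Finset.range (d + 1), (vdim D V P n + vdim D V Q ((d : ℤ) - n)) ≤
      (d + 1) * (r + 1) + 1 := by
    calc ∑ n ∈ Finset.range (d + 1), (vdim D V P n + vdim D V Q ((d : ℤ) - n))
        ≤ ∑ n ∈ Finset.range (d + 1), (r + 1 + if good n then 1 else 0) := by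
          refine Finset.sum_le_sum fun n hn => ?_
          have hn' : n ≤ d := Nat.lt_succ_iff.1 (Finset.mem_range.1 hn)
          have := key n hn'; have := hone n hn'
          split_ifs at * <;> omega
      _ = (d + 1) * (r + 1) + bad.card := by
          rw [Finset.sum_add_distrib, Finset.sum_const, Finset.card_range, smul_eq_mul,
            Finset.sum_boole, Nat.cast_id, hbad]
      _ ≤ _ := by omega
  have hP0 : ∑ n ∈ Finset.range (d + 1), vdim D V P n = (r + 1) + vsum D V P d := by
    rw [Finset.sum_range_succ', vsum, add_comm]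
    push_cast
    rw [vdim_zero hS]
  have hQ0 : ∑ n ∈ Finset.range (d + 1), vdim D V Q ((d : ℤ) - n) = (r + 1) + vsum D V Q d := by
    rw [← Finset.sum_range_reflect, Finset.sum_range_succ', vsum, add_comm]
    simp only [add_tsub_cancel_right, tsub_zero, sub_self, vdim_zero hS]
    refine congrArg _ (Finset.sum_congr rfl fun n hn => ?_)
    rw [Finset.mem_range] at hn
    congr 1
    omega
  rw [Finset.sum_add_distrib, hP0, hQ0] at hsum
  have : (d + 1) * (r + 1) = (r + 1) * d + (r + 1) := by ring
  omega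

/-- `S19710`: at most one index where the orders at `P'` and on the other side agree. -/
theorem subsingleton_equal_orders [CharZero k] (h0 : RiemannZero k K) {K' : Type*} [Field K']
    [Algebra k K'] {D : Divisor k K} {V : Submodule k K} {D' : Divisor k K'} {V' : Submodule k K'}
    {d r : ℕ} (hS : IsSeries D V d r) (hG' : Good k K') (hS' : IsSeries D' V' d r)
    {QY P P' : Place k K} {Q : Place k K'} (hcusp : r ≤ vdim D V QY 2) (hP : P ≠ QY)
    (hP'P : P' ≠ P) (hP'Q : P' ≠ QY)
    (hcomp : ∀ n : ℕ, n ≤ d + 1 → vdim D V P n + vdim D' V' Q ((d : ℤ) + 1 - n) = r + 1) :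
    {i : ℕ | i ≤ r ∧ ∃ m : ℕ, vdim D V P' m = r + 1 - i ∧ vdim D V P' ((m : ℤ) + 1) = r - i ∧
      vdim D' V' Q m = r + 1 - i ∧ vdim D' V' Q ((m : ℤ) + 1) = r - i}.Subsingleton := by
  classical
  have member : ∀ i m : ℕ, i ≤ r → vdim D V P' m = r + 1 - i →
      vdim D' V' Q ((m : ℤ) + 1) = r - i → vdim D' V' Q m = r + 1 - i →
      ∃ f ∈ V, f ≠ 0 ∧ FunFld.div k f + D =
        Finsupp.single P' (m : ℤ) + Finsupp.single P ((d : ℤ) - m) := by
    intro i m hi h1 h2 h3
    have hmd : m ≤ d := by
      by_contra hlt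
      rw [vdim_eq_zero hG' hS' (by omega)] at h3
      omega
    have hc := hcomp (d - m) (by omega)
    rw [show (d : ℤ) + 1 - ((d - m : ℕ) : ℤ) = (m : ℤ) + 1 by omega, h2,
      show ((d - m : ℕ) : ℤ) = (d : ℤ) - m by omega] at hc
    have := hS.finite
    have hne : (V ⊓ L (D - Finsupp.single P' (m : ℤ))) ⊓
        (V ⊓ L (D - Finsupp.single P ((d : ℤ) - m))) ≠ ⊥ := by
      intro hbot
      have ha : FiniteDimensional k ↥(V ⊓ L (D - Finsupp.single P' (m : ℤ))) :=
        Submodule.finiteDimensional_of_le (inf_le_left : _ ≤ V)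
      have hb : FiniteDimensional k ↥(V ⊓ L (D - Finsupp.single P ((d : ℤ) - m))) :=
        Submodule.finiteDimensional_of_le (inf_le_left : _ ≤ V)
      have h4 := Submodule.finrank_sup_add_finrank_inf_eq (V ⊓ L (D - Finsupp.single P' (m : ℤ)))
        (V ⊓ L (D - Finsupp.single P ((d : ℤ) - m)))
      rw [hbot, finrank_bot, add_zero] at h4
      have h5 := Submodule.finrank_mono (show (V ⊓ L (D - Finsupp.single P' (m : ℤ))) ⊔
        (V ⊓ L (D - Finsupp.single P ((d : ℤ) - m))) ≤ V from sup_le inf_le_left inf_le_left)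
      rw [hS.rank, h4] at h5
      rw [vdim] at h1 hc
      omega
    obtain ⟨f, ⟨⟨hfV, hfP⟩, -, hfQ⟩, hf0⟩ := Submodule.exists_mem_ne_zero_of_ne_bot hne
    have hmem : f ∈ L (D - Finsupp.single P' (m : ℤ) - Finsupp.single P ((d : ℤ) - m)) := by
      rw [mem_L_sub_single_iff (by omega)]
      refine ⟨hfP, ?_⟩
      have := ((mem_L_sub_single_iff (by omega)).1 hfQ).2
      simpa [Finsupp.single_apply, hP'P] using this
    have h6 := eq_zero_of_nonneg_of_deg hG (div_add_nonneg hG hmem hf0)
      (by rw [deg_add, deg_sub, deg_sub, hG.deg_div f hf0, deg_single, deg_single, hS.deg,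
        hG.deg_one, hG.deg_one]; push_cast; omega)
    refine ⟨f, hfV, hf0, ?_⟩
    rw [← sub_eq_zero, ← h6]
    abel
  rintro i ⟨hi, m, a1, a2, a3, a4⟩ j ⟨hj, m', b1, b2, b3, b4⟩
  obtain ⟨f, hfV, hf0, ef⟩ := member i m hi a1 a4 a3
  obtain ⟨g, hgV, hg0, eg⟩ := member j m' hj b1 b4 b3
  have hsupp : ∀ (z : K) (a b : ℤ), FunFld.div k z + D =
      Finsupp.single P' a + Finsupp.single P b →
      ∀ R : Place k K, R ≠ P → R ≠ P' → (FunFld.div k z + D) R = 0 := by
    intro z a b e R h1 h2
    simp [e, h1.symm, h2.symm]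
  obtain ⟨c, hc⟩ := eq_smul_of_supported hG hS h0 hcusp hP hP'Q hfV hgV hf0 hg0
    (hsupp f _ _ ef) (hsupp g _ _ eg)
  have hc0 : c ≠ 0 := by rintro rfl; exact hg0 (by rw [hc, zero_smul])
  have hm : (m : ℤ) = m' := by
    have e1 := DFunLike.congr_fun ef P'
    have e2 := DFunLike.congr_fun eg P'
    rw [hc] at e2
    simp only [Finsupp.add_apply, div_apply hG, Finsupp.single_eq_same,
      Finsupp.single_apply, if_neg hP'P.symm] at e1 e2
    have : P'.ord (c • f) = P'.ord f := by
      simp only [Place.ord, Algebra.smul_def, map_mul, val_algebraMap P' hc0, one_mul]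
    rw [this] at e2
    simp at e1 e2
    omega
  have : m = m' := by exact_mod_cast hm
  subst this
  omega

end Groth.Funfld2
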