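import Groth.Agent.Funfld2.LLS.Flag
import Mathlib.LinearAlgebra.Vandermonde
import Mathlib.Algebra.Polynomial.Derivative
import Mathlib.Algebra.Polynomial.RingDivision
import Mathlib.RingTheory.Polynomial.Pochhammer
import Mathlib.RingTheory.Polynomial.Basic
import Mathlib.RingTheory.Coprime.Lemmas

/-! The Plücker inequality for linear systems of polynomials in characteristic zero. -/

open Polynomial

namespace Groth.Funfld2

variable {k : Type*} [Field k]

/-- The Wronskian determinant of a tuple of polynomials. -/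
noncomputable def polyWr {M : ℕ} (p : Fin M → k[X]) : k[X] :=
  (Matrix.of fun i j : Fin M => derivative^[(j : ℕ)] (p i)).det

theorem iterate_derivative_linear (n : ℕ) (p : k[X]) :
    derivative^[n] p = (derivative ^ n : Module.End k k[X]) p := by
  rw [Module.End.pow_apply]

theorem polyWr_change {M : ℕ} (p q : Fin M → k[X]) (A : Matrix (Fin M) (Fin M) k)
    (h : ∀ i, q i = ∑ j, A i j • p j) : polyWr q = C A.det * polyWr p := by
  rw [polyWr, polyWr, RingHom.map_det, ← Matrix.det_mul]
  congr 1
  ext1 i j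
  simp only [Matrix.mul_apply, RingHom.mapMatrix_apply, Matrix.map_apply, Matrix.of_apply, h i,
    iterate_derivative_linear, map_sum, map_smul]
  simp only [smul_eq_C_mul]

theorem polyWr_dvd_of_mem_span {M : ℕ} (p q : Fin M → k[X])
    (h : ∀ i, q i ∈ Submodule.span k (Set.range p)) : polyWr p ∣ polyWr q := by
  choose A hA using fun i => (Submodule.mem_span_range_iff_exists_fun k).1 (h i)
  exact ⟨_, (polyWr_change p q (Matrix.of A) fun i => (hA i).symm).trans (mul_comm _ _)⟩

theorem pow_dvd_scaled_wr {M : ℕ} (p : Fin M → k[X]) (m : Fin M → ℕ) (a : k)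
    (h : ∀ i, (X - C a) ^ m i ∣ p i) :
    (X - C a) ^ (∑ i, m i) ∣ (X - C a) ^ (∑ j : Fin M, (j : ℕ)) * polyWr p := by
  have key : ∀ i j : Fin M, (X - C a) ^ m i ∣ (X - C a) ^ (j : ℕ) * derivative^[(j : ℕ)] (p i) := by
    intro i j
    refine (pow_dvd_pow _ (show m i ≤ (j : ℕ) + (m i - j) by omega)).trans ?_
    rw [pow_add]
    exact mul_dvd_mul dvd_rfl (pow_sub_dvd_iterate_derivative_of_pow_dvd _ (h i))
  choose q hq using key
  have e : (X - C a) ^ (∑ j : Fin M, (j : ℕ)) * polyWr p =
      (Matrix.of fun i j : Fin M => (X - C a) ^ (j : ℕ) * derivative^[(j : ℕ)] (p i)).det := by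
    rw [← Finset.prod_pow_eq_pow_sum, polyWr, ← Matrix.det_mul_row]
    rfl
  rw [e, show (Matrix.of fun i j : Fin M => (X - C a) ^ (j : ℕ) * derivative^[(j : ℕ)] (p i)) =
      Matrix.of (fun i j => (X - C a) ^ m i * (Matrix.of q) i j) from by ext1 i j; exact hq i j,
    Matrix.det_mul_column, ← Finset.prod_pow_eq_pow_sum]
  exact dvd_mul_right _ _

theorem coeff_scaled_derivative (p : k[X]) (j n : ℕ) :
    (X ^ j * derivative^[j] p).coeff n = (n.descFactorial j : k) * p.coeff n := by
  rw [coeff_X_pow_mul']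
  split_ifs with h
  · rw [coeff_iterate_derivative, Nat.sub_add_cancel h, nsmul_eq_mul]
  · rw [Nat.descFactorial_eq_zero_iff_lt.2 (by omega), Nat.cast_zero, zero_mul]

theorem natDegree_scaled_derivative_le (p : k[X]) (j : ℕ) :
    (X ^ j * derivative^[j] p).natDegree ≤ p.natDegree := by
  rw [natDegree_le_iff_coeff_eq_zero]
  intro n hn
  rw [coeff_scaled_derivative, coeff_eq_zero_of_natDegree_lt hn, mul_zero]

theorem coeff_prod_sum_bound {ι : Type*} (s : Finset ι) (f : ι → k[X]) (n : ι → ℕ)
    (h : ∀ i ∈ s, (f i).natDegree ≤ n i) :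
    (∏ i ∈ s, f i).coeff (∑ i ∈ s, n i) = ∏ i ∈ s, (f i).coeff (n i) ∧
      (∏ i ∈ s, f i).natDegree ≤ ∑ i ∈ s, n i := by
  classical
  induction s using Finset.induction_on with
  | empty => simp
  | @insert a s ha ih =>
    obtain ⟨h1, h2⟩ := ih fun i hi => h i (Finset.mem_insert_of_mem hi)
    have h3 := h a (Finset.mem_insert_self a s)
    rw [Finset.prod_insert ha, Finset.sum_insert ha, Finset.prod_insert ha]
    exact ⟨by rw [coeff_mul_add_eq_of_natDegree_le h3 h2, h1], natDegree_mul_le.trans (add_le_add h3 h2)⟩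

theorem scaled_wr_degree [CharZero k] {M : ℕ} (p : Fin M → k[X])
    (hinj : Function.Injective fun i => (p i).natDegree) (hne : ∀ i, p i ≠ 0) :
    polyWr p ≠ 0 ∧ (polyWr p).natDegree + ∑ j : Fin M, (j : ℕ) ≤ ∑ i, (p i).natDegree := by
  classical
  set E : Matrix (Fin M) (Fin M) k[X] :=
    Matrix.of fun i j : Fin M => X ^ (j : ℕ) * derivative^[(j : ℕ)] (p i) with hE
  have hdet : E.det = X ^ (∑ j : Fin M, (j : ℕ)) * polyWr p := by
    rw [← Finset.prod_pow_eq_pow_sum, polyWr, ← Matrix.det_mul_row]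
    rfl
  have hcoeff : E.det.coeff (∑ i, (p i).natDegree) =
      (∏ i, (p i).leadingCoeff) *
        (Matrix.of fun i j : Fin M => (((p i).natDegree.descFactorial j : ℕ) : k)).det := by
    rw [← Matrix.det_mul_column, Matrix.det_apply', Matrix.det_apply', finsetSum_coeff]
    refine Finset.sum_congr rfl fun σ _ => ?_
    rw [← C_eq_intCast, coeff_C_mul, ← Equiv.sum_comp σ (fun i => (p i).natDegree),
      (coeff_prod_sum_bound Finset.univ (fun i => E (σ i) i) (fun i => (p (σ i)).natDegree)
        fun i _ => natDegree_scaled_derivative_le (p (σ i)) i).1]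
    refine congrArg _ (Finset.prod_congr rfl fun i _ => ?_)
    simp only [hE, Matrix.of_apply, coeff_scaled_derivative, leadingCoeff]
    ring
  have hdeg : E.det.natDegree ≤ ∑ i, (p i).natDegree := by
    rw [Matrix.det_apply']
    refine natDegree_sum_le_of_forall_le _ _ fun σ _ => ?_
    rw [← C_eq_intCast]
    refine (natDegree_C_mul_le _ _).trans ?_
    rw [← Equiv.sum_comp σ (fun i => (p i).natDegree)]
    exact (coeff_prod_sum_bound Finset.univ (fun i => E (σ i) i) (fun i => (p (σ i)).natDegree)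
        fun i _ => natDegree_scaled_derivative_le (p (σ i)) i).2
  have hvand : (Matrix.of fun i j : Fin M => (((p i).natDegree.descFactorial j : ℕ) : k)).det ≠ 0 := by
    have h := Matrix.det_eval_matrixOfPolynomials_eq_det_vandermonde
      (fun i : Fin M => ((p i).natDegree : k)) (fun j => descPochhammer k j)
      (fun j => descPochhammer_natDegree (R := k) j) (fun j => monic_descPochhammer (R := k) j)
    simp only [descPochhammer_eval_eq_descFactorial] at h
    rw [← h]
    exact Matrix.det_vandermonde_ne_zero_iff.2 fun a b hab => hinj (Nat.cast_injective hab)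
  have hne' : polyWr p ≠ 0 := by
    intro h0
    rw [hdet, h0, mul_zero, coeff_zero] at hcoeff
    exact mul_ne_zero (Finset.prod_ne_zero_iff.2 fun i _ => leadingCoeff_ne_zero.2 (hne i))
      hvand hcoeff.symm
  refine ⟨hne', ?_⟩
  rw [hdet, natDegree_mul (pow_ne_zero _ X_ne_zero) hne', natDegree_X_pow] at hdeg
  omega

/-- Members of `V` vanishing to order `n` at `a`. -/
noncomputable def polyAt (V : Submodule k k[X]) (a : k) (n : ℕ) : Submodule k k[X] :=
  V ⊓ (Ideal.span {(X - C a) ^ n}).restrictScalars k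

/-- Members of `V` vanishing to order `n` at infinity, in degree `d`. -/
noncomputable def polyInf (V : Submodule k k[X]) (d n : ℕ) : Submodule k k[X] :=
  V ⊓ degreeLT k (d + 1 - n)

theorem finrank_polyInf_le_succ (V : Submodule k k[X]) (d n : ℕ) [FiniteDimensional k V] :
    Module.finrank k (polyInf V d n) ≤ Module.finrank k (polyInf V d (n + 1)) + 1 := by
  have : FiniteDimensional k (polyInf V d n) := Submodule.finiteDimensional_of_le inf_le_left
  let f : polyInf V d n →ₗ[k] k := (lcoeff k (d - n)).comp (polyInf V d n).subtype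
  have hker : (LinearMap.ker f).map (polyInf V d n).subtype ≤ polyInf V d (n + 1) := by
    rintro _ ⟨⟨p, hpV, hp⟩, hker, rfl⟩
    refine ⟨hpV, mem_degreeLT.2 ((degree_lt_iff_coeff_zero _ _).2 fun m hm => ?_)⟩
    rcases eq_or_lt_of_le hm with h | h
    · subst h
      rw [show d + 1 - (n + 1) = d - n by omega]
      exact hker
    · exact (degree_lt_iff_coeff_zero _ _).1 (mem_degreeLT.1 hp) m (by omega)
  have h1 := LinearMap.finrank_range_add_finrank_ker f
  have h2 : Module.finrank k (LinearMap.range f) ≤ 1 :=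
    (Submodule.finrank_le _).trans (by simp)
  have : FiniteDimensional k (polyInf V d (n + 1)) := Submodule.finiteDimensional_of_le inf_le_left
  have h3 : Module.finrank k (LinearMap.ker f) ≤ Module.finrank k (polyInf V d (n + 1)) := by
    rw [← Submodule.finrank_map_subtype_eq (polyInf V d n) (LinearMap.ker f)]
    exact Submodule.finrank_mono hker
  omega

/-- Plücker inequality on the projective line. -/
theorem poly_plucker [CharZero k] (V : Submodule k k[X]) {d r : ℕ}
    (hV : V ≤ degreeLT k (d + 1)) (hr : Module.finrank k V = r + 1) (s : Finset k) :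
    (∑ a ∈ s, ∑ n ∈ Finset.range d, Module.finrank k (polyAt V a (n + 1))) +
        (∑ n ∈ Finset.range d, Module.finrank k (polyInf V d (n + 1))) + r * (r + 1) ≤
      (r + 1) * d + (s.card + 1) * (r * (r + 1) / 2) := by
  have hfin : FiniteDimensional k V := FiniteDimensional.of_finrank_pos (by omega)
  have hR : ∑ j : Fin (r + 1), (j : ℕ) = r * (r + 1) / 2 := by
    rw [Fin.sum_univ_eq_sum_range (fun j : ℕ => j), Finset.sum_range_id, add_tsub_cancel_right,
      mul_comm]
  have hI0 : polyInf V d 0 = V := inf_eq_left.2 (by simpa using hV)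
  have : FiniteDimensional k (polyInf V d 0) := hI0.symm ▸ hfin
  have hIN : polyInf V d (d + 1) = ⊥ := by
    rw [polyInf, Nat.sub_self, eq_bot_iff]
    rintro p ⟨-, hp⟩
    simpa using degree_lt_iff_coeff_zero p 0 |>.1 (mem_degreeLT.1 hp) |> fun h => Polynomial.ext fun m => by simp [h m]
  obtain ⟨b, m, -, hspan, hmem, hnot, hinj, hsum⟩ := exists_adapted_fin (d + 1) (polyInf V d)
    (fun x y h => inf_le_inf_left _ (degreeLT_mono (by omega))) hIN (by rw [hI0, hr])
  have hb0 : ∀ i, b i ≠ 0 := fun i h => hnot i (h ▸ zero_mem _)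
  have hdeg : ∀ i, (b i).natDegree + m i = d := by
    intro i
    have h1 := mem_degreeLT.1 (hmem i).2
    have h2 : ¬ (b i).degree < ((d + 1 - (m i + 1) : ℕ) : WithBot ℕ) :=
      fun h => hnot i ⟨(hmem i).1, mem_degreeLT.2 h⟩
    rw [degree_eq_natDegree (hb0 i), Nat.cast_lt] at h1 h2
    omega
  obtain ⟨hW, hWdeg⟩ := scaled_wr_degree b (fun i j h =>
    hinj (fun n => finrank_polyInf_le_succ V d n) (by
      have := hdeg i
      have := hdeg j
      simp only at h
      omega)) hb0
  -- local orders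
  have hloc : ∀ a : k, ∃ e : ℕ, (X - C a) ^ e ∣ polyWr b ∧
      ∑ n ∈ Finset.range d, Module.finrank k (polyAt V a (n + 1)) ≤ e + r * (r + 1) / 2 := by
    intro a
    have hA0 : polyAt V a 0 = V := by
      refine inf_eq_left.2 fun p _ => ?_
      simp
    have : FiniteDimensional k (polyAt V a 0) := hA0.symm ▸ hfin
    have hAN : polyAt V a (d + 1) = ⊥ := by
      rw [eq_bot_iff]
      rintro p ⟨hpV, hp⟩
      rw [Submodule.mem_bot]
      refine eq_zero_of_dvd_of_degree_lt (Ideal.mem_span_singleton.1 hp) ?_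
      rw [degree_pow, degree_X_sub_C, nsmul_one]
      exact mem_degreeLT.1 (hV hpV)
    obtain ⟨q, μ, -, hqspan, hqmem, -, -, hμ⟩ := exists_adapted_fin (M := r + 1) (d + 1) (polyAt V a)
      (fun x y h => inf_le_inf_left _ fun p hp => Ideal.mem_span_singleton.2
        ((pow_dvd_pow _ h).trans (Ideal.mem_span_singleton.1 hp)))
      hAN (by rw [hA0, hr])
    refine ⟨(∑ i, μ i) - r * (r + 1) / 2, ?_, ?_⟩
    · have h1 := pow_dvd_scaled_wr q μ a fun i => Ideal.mem_span_singleton.1 (hqmem i).2
      have h2 : polyWr q ∣ polyWr b := polyWr_dvd_of_mem_span q b fun i => by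
        rw [hqspan, hA0, ← hI0, ← hspan]
        exact Submodule.subset_span ⟨i, rfl⟩
      rw [hR] at h1
      refine dvd_trans ?_ h2
      rcases le_total (∑ i, μ i) (r * (r + 1) / 2) with h | h
      · simp [Nat.sub_eq_zero_of_le h]
      · have e : (X - C a) ^ (∑ i, μ i) =
            (X - C a) ^ (r * (r + 1) / 2) * (X - C a) ^ ((∑ i, μ i) - r * (r + 1) / 2) := by
          rw [← pow_add, Nat.add_sub_cancel' h]
        rw [e] at h1
        exact (mul_dvd_mul_iff_left (pow_ne_zero _ (X_sub_C_ne_zero a))).1 h1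
    · rw [hμ, Finset.sum_range_succ]
      omega
  choose e he hle using hloc
  have hprod : ∏ a ∈ s, (X - C a) ^ e a ∣ polyWr b :=
    Finset.prod_dvd_of_coprime
      (fun a _ a' _ h => (isCoprime_X_sub_C_of_isUnit_sub (sub_ne_zero.2 h).isUnit).pow)
      fun a _ => he a
  have hnat := natDegree_le_of_dvd hprod hW
  rw [natDegree_prod _ _ fun a _ => pow_ne_zero _ (X_sub_C_ne_zero a)] at hnat
  simp only [natDegree_pow, natDegree_X_sub_C, mul_one] at hnat
  have h1 : ∑ i, (b i).natDegree + ∑ i, m i = (r + 1) * d := by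
    rw [← Finset.sum_add_distrib]; simp [hdeg]
  have h2 : ∑ a ∈ s, ∑ n ∈ Finset.range d, Module.finrank k (polyAt V a (n + 1)) ≤
      (∑ a ∈ s, e a) + s.card * (r * (r + 1) / 2) := by
    refine (Finset.sum_le_sum fun a _ => hle a).trans ?_
    rw [Finset.sum_add_distrib, Finset.sum_const, smul_eq_mul]
  have h3 : ∑ n ∈ Finset.range d, Module.finrank k (polyInf V d (n + 1)) ≤ ∑ i, m i := by
    rw [hsum, Finset.sum_range_succ]
    omega
  rw [hR] at hWdeg
  have hR2 : 2 * (r * (r + 1) / 2) = r * (r + 1) :=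
    Nat.mul_div_cancel' (Nat.even_mul_succ_self r).two_dvd
  rw [add_mul, one_mul, add_mul, one_mul]
  rw [add_mul, one_mul] at h1
  omega

end Groth.Funfld2
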